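import Groth.Agent.QCohDescLib.Sections

/-!
# Sections of quasi-coherent modules over any open descend along fpqc families
-/

set_option autoImplicit false
set_option linter.style.haveILetI false
set_option backward.isDefEq.respectTransparency false
set_option backward.isDefEq.respectTransparency.types false
set_option maxHeartbeats 800000

noncomputable section

universe u v

open CategoryTheory CategoryTheory.Limits AlgebraicGeometry TopologicalSpace Opposite TensorProduct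
open KFlatLib (pb puSec puSecLE)

namespace QCohDescLib

variable {ι : Type u} {S : Scheme.{u}} {X : ι → Scheme.{u}} (f : ∀ i, X i ⟶ S)

/-- Sections are determined by their pullbacks along a jointly surjective flat family. -/
theorem section_ext [∀ i, Flat (f i)] (hsurj : ∀ s : S, ∃ i, s ∈ Set.range (f i)) (N : S.Modules) {U : S.Opens}
    (s t : Γ(N, U)) (h : ∀ i, puSec (f i) s = puSec (f i) t) : s = t := by
  refine TopCat.Presheaf.section_ext ((QCohLib.toAbF S).obj N : TopCat.Sheaf AddCommGrpCat _) U s t fun x hx => ?_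
  obtain ⟨i, z, rfl⟩ := hsurj x
  have h2 := congrArg ((pb (f i) N).presheaf.germ (f i ⁻¹ᵁ U) z hx) (h i)
  rw [← KFlatLib.stalkPullInv_germ, ← KFlatLib.stalkPullInv_germ] at h2
  letI := ((f i).stalkMap z).hom.toAlgebra
  haveI := FpqcPCLib.ff_stalkMap (f i) z
  exact Module.FaithfullyFlat.tensorProduct_mk_injective (A := S.presheaf.stalk (f i z))
    (B := (X i).presheaf.stalk z) (N.presheaf.stalk (f i z))
    ((ConcreteCategory.bijective_of_isIso ((KFlatLib.stalkPullIso (f i) z).inv.app N)).1 h2)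

/-- Compatibility of sections of the pullbacks over an open. -/
def Compat (N : S.Modules) (U : S.Opens) (s : ∀ i, Γ(pb (f i) N, f i ⁻¹ᵁ U)) : Prop :=
  ∀ i j (Y : Scheme.{u}) (a : Y ⟶ X i) (b : Y ⟶ X j) (hY : Y ⟶ S) (ea : a ≫ f i = hY) (eb : b ≫ f j = hY)
    (O : Y.Opens) (la : O ≤ a ⁻¹ᵁ (f i ⁻¹ᵁ U)) (lb : O ≤ b ⁻¹ᵁ (f j ⁻¹ᵁ U)),
      pullLE N a ea la (s i) = pullLE N b eb lb (s j)

theorem exists_descend_section_affine (hf : Presieve.ofArrows X f ∈ Scheme.fpqcPrecoverage S) (N : S.Modules)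
    [Coh.IsQCoh N] {U : S.Opens} (hU : IsAffineOpen U) (s : ∀ i, Γ(pb (f i) N, f i ⁻¹ᵁ U)) (hs : Compat f N U s) :
    ∃ n : Γ(N, U), ∀ i, puSec (f i) n = s i := by
  obtain ⟨m, a, V, o, b, hV, ho, hob, haff, hflat, hsurj, -⟩ := DescLib.exists_affine_refinement hf hU
  haveI := hV
  haveI := ho
  let p : ∐ V ⟶ S := Limits.Sigma.desc b ≫ U.ι
  haveI : Flat p := inferInstanceAs (Flat (Limits.Sigma.desc b ≫ U.ι))
  have hp : Set.range p = U := by
    show Set.range (Limits.Sigma.desc b ≫ U.ι) = _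
    rw [show ⇑(Limits.Sigma.desc b ≫ U.ι) = U.ι ∘ Limits.Sigma.desc b from rfl, Set.range_comp,
      (Limits.Sigma.desc b).surjective.range_eq, Set.image_univ, Scheme.Opens.range_ι]
  have hι : ∀ k, Sigma.ι V k ≫ p = o k ≫ f (a k) := fun k => by
    show Sigma.ι V k ≫ Limits.Sigma.desc b ≫ U.ι = _
    rw [Sigma.ι_desc_assoc, hob]
  have hle : ∀ k, (⊤ : (V k).Opens) ≤ o k ⁻¹ᵁ (f (a k) ⁻¹ᵁ U) := fun k y _ => by
    show (o k ≫ f (a k)) y ∈ (U : Set S)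
    rw [hob k]
    exact (b k y).2
  let τ : ∀ k, Γ(pb (o k ≫ f (a k)) N, ⊤) := fun k => pullLE N (o k) rfl (hle k) (s (a k))
  obtain ⟨t, ht⟩ := exists_glue_openImmersion N (fun k => Sigma.ι V k)
    (fun x => by
      obtain ⟨z, hz⟩ := (sigmaOpenCover V).covers x
      exact ⟨(sigmaOpenCover V).idx x, z, hz⟩) hι τ
    (fun k l Y u w hY ea eb _ => by
      have e1 : (u ≫ o k) ≫ f (a k) = hY := by rw [Category.assoc]; exact ea
      have e2 : (w ≫ o l) ≫ f (a l) = hY := by rw [Category.assoc]; exact eb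
      refine (pullLE_pullLE N (o k) u rfl ea e1 (hle k) (le_refl ⊤)
        (show (⊤ : Y.Opens) ≤ (u ≫ o k) ⁻¹ᵁ (f (a k) ⁻¹ᵁ U) from fun y _ => hle k (Set.mem_univ (u y))) (s (a k))).trans
        (Eq.trans ?_ (pullLE_pullLE N (o l) w rfl eb e2 (hle l) (le_refl ⊤)
        (show (⊤ : Y.Opens) ≤ (w ≫ o l) ⁻¹ᵁ (f (a l) ⁻¹ᵁ U) from fun y _ => hle l (Set.mem_univ (w y))) (s (a l))).symm)
      exact hs _ _ Y _ _ hY e1 e2 ⊤ _ _)
  -- the glued section is invariant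
  have hinv : ∀ (Y : Scheme.{u}) (u w : Y ⟶ ∐ V) (hY : Y ⟶ S) (ea : u ≫ p = hY) (eb : w ≫ p = hY),
      pullLE N u ea (O' := ⊤) le_rfl t = pullLE N w eb (O' := ⊤) le_rfl t := fun Y u w hY ea eb => by
    let O := fun kl : Fin m × Fin m => u ⁻¹ᵁ (Sigma.ι V kl.1).opensRange ⊓ w ⁻¹ᵁ (Sigma.ι V kl.2).opensRange
    refine pullLE_injective N (fun kl => (O kl).ι) (fun _ => rfl) (fun _ => ⊤)
      (fun _ => le_rfl) (fun y _ => ?_) _ _ fun kl => ?_
    · obtain ⟨z₁, hz₁⟩ := (sigmaOpenCover V).covers (u y)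
      obtain ⟨z₂, hz₂⟩ := (sigmaOpenCover V).covers (w y)
      exact ⟨⟨(sigmaOpenCover V).idx (u y), (sigmaOpenCover V).idx (w y)⟩, ⟨y, ⟨z₁, hz₁⟩, ⟨z₂, hz₂⟩⟩, trivial, rfl⟩
    let u' : (O kl : Scheme.{u}) ⟶ V kl.1 := IsOpenImmersion.lift (Sigma.ι V kl.1) ((O kl).ι ≫ u) (by
      rintro _ ⟨y, rfl⟩; exact (y.2 : _ ∧ _).1)
    let w' : (O kl : Scheme.{u}) ⟶ V kl.2 := IsOpenImmersion.lift (Sigma.ι V kl.2) ((O kl).ι ≫ w) (by
      rintro _ ⟨y, rfl⟩; exact (y.2 : _ ∧ _).2)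
    have hu' : u' ≫ Sigma.ι V kl.1 = (O kl).ι ≫ u := IsOpenImmersion.lift_fac _ _ _
    have hw' : w' ≫ Sigma.ι V kl.2 = (O kl).ι ≫ w := IsOpenImmersion.lift_fac _ _ _
    have k1 : u' ≫ o kl.1 ≫ f (a kl.1) = (O kl).ι ≫ hY := by
      rw [← hι, reassoc_of% hu', ea]
    have k2 : w' ≫ o kl.2 ≫ f (a kl.2) = (O kl).ι ≫ hY := by
      rw [← hι, reassoc_of% hw', eb]
    refine (pullLE_pullLE_eq N (O kl).ι u u' (Sigma.ι V kl.1) hu'.symm ea (hι kl.1) rfl k1 le_rfl le_rfl _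
      (le_refl ⊤) t).trans (Eq.trans ?_ (pullLE_pullLE_eq N (O kl).ι w w' (Sigma.ι V kl.2) hw'.symm eb (hι kl.2) rfl k2
        le_rfl le_rfl _ (le_refl ⊤) t).symm)
    refine (congrArg (fun z => pullLE N u' k1 (O' := ⊤) le_rfl z) (ht kl.1)).trans
      (Eq.trans ?_ (congrArg (fun z => pullLE N w' k2 (O' := ⊤) le_rfl z) (ht kl.2)).symm)
    have e1 : (u' ≫ o kl.1) ≫ f (a kl.1) = (O kl).ι ≫ hY := by rw [Category.assoc, k1]
    have e2 : (w' ≫ o kl.2) ≫ f (a kl.2) = (O kl).ι ≫ hY := by rw [Category.assoc, k2]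
    refine (pullLE_pullLE N (o kl.1) u' rfl k1 e1 (hle kl.1) (le_refl ⊤)
      (show (⊤ : (O kl : Scheme.{u}).Opens) ≤ (u' ≫ o kl.1) ⁻¹ᵁ (f (a kl.1) ⁻¹ᵁ U) from
        fun y _ => hle kl.1 (Set.mem_univ (u' y))) (s (a kl.1))).trans
      (Eq.trans ?_ (pullLE_pullLE N (o kl.2) w' rfl k2 e2 (hle kl.2) (le_refl ⊤)
      (show (⊤ : (O kl : Scheme.{u}).Opens) ≤ (w' ≫ o kl.2) ⁻¹ᵁ (f (a kl.2) ⁻¹ᵁ U) from
        fun y _ => hle kl.2 (Set.mem_univ (w' y))) (s (a kl.2))).symm)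
    exact hs _ _ _ _ _ _ e1 e2 ⊤ _ _
  obtain ⟨n, hn⟩ := exists_descend_affine N hU p hp t hinv
  have hn' : ∀ k, puSecLE (o k ≫ f (a k)) N (hle k) n = τ k := fun k => by
    rw [← ht k, ← hn]
    exact (pullLE_puSecLE N _ _ _ _ _ n).symm
  haveI : ∀ i, Flat (f i) := fun i => DescLib.ofArrows_flat hf i
  refine ⟨n, fun i => ?_⟩
  rw [← puSecLE_rfl N n]
  refine pullLE_injective N (fun k => pullback.fst (f i) (o k ≫ f (a k))) (fun _ => rfl)
    (fun k => pullback.fst (f i) (o k ≫ f (a k)) ⁻¹ᵁ (f i ⁻¹ᵁ U)) (fun _ => le_rfl) (fun x hx => ?_) _ _ fun k => ?_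
  · obtain ⟨y, hy⟩ := hp.ge (show f i x ∈ (U : Set S) from hx)
    obtain ⟨z, hz⟩ := (sigmaOpenCover V).covers y
    refine ⟨(sigmaOpenCover V).idx y, ?_⟩
    have : f i x = (o _ ≫ f (a _)) z :=
      hy.symm.trans ((congrArg p hz.symm).trans (congr($(hι ((sigmaOpenCover V).idx y)) z)))
    obtain ⟨w, hw, -⟩ := Scheme.Pullback.exists_preimage_pullback x z this
    refine ⟨w, ?_, hw⟩
    show pullback.fst (f i) (o _ ≫ f (a _)) w ∈ f i ⁻¹ᵁ U
    rw [hw]; exact hx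
  let pi := pullback.fst (f i) (o k ≫ f (a k))
  let pk := pullback.snd (f i) (o k ≫ f (a k))
  have hc : pk ≫ o k ≫ f (a k) = pi ≫ f i := pullback.condition.symm
  have e2 : (pk ≫ o k) ≫ f (a k) = pi ≫ f i := by rw [Category.assoc]; exact hc
  have l2 : pi ⁻¹ᵁ (f i ⁻¹ᵁ U) ≤ pk ⁻¹ᵁ ⊤ := fun _ _ => trivial
  have l3 : pi ⁻¹ᵁ (f i ⁻¹ᵁ U) ≤ (pi ≫ f i) ⁻¹ᵁ U := fun _ h => h
  rw [pullLE_puSecLE N pi rfl le_rfl le_rfl l3, ← pullLE_puSecLE N pk hc (hle k) l2 l3 n, hn' k,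
    pullLE_pullLE N (o k) pk rfl hc e2 (hle k) l2 (l2.trans (pk.preimage_mono (hle k)))]
  exact hs _ _ _ _ _ _ e2 rfl _ _ _

/-- Sections of a quasi-coherent module descend along an fpqc family. -/
theorem exists_descend_section (hf : Presieve.ofArrows X f ∈ Scheme.fpqcPrecoverage S) (N : S.Modules)
    [Coh.IsQCoh N] (U : S.Opens) (s : ∀ i, Γ(pb (f i) N, f i ⁻¹ᵁ U)) (hs : Compat f N U s) :
    ∃ n : Γ(N, U), ∀ i, puSec (f i) n = s i := by
  haveI : ∀ i, Flat (f i) := fun i => DescLib.ofArrows_flat hf i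
  let A := {V : S.affineOpens // V.1 ≤ U}
  have hex : ∀ V : A, ∃ n : Γ(N, V.1.1), ∀ i,
      puSec (f i) n = (pb (f i) N).presheaf.map (homOfLE ((f i).preimage_mono V.2)).op (s i) := fun V =>
    exists_descend_section_affine f hf N V.1.2 _ fun i j Y a b hY ea eb O la lb => by
      rw [pullLE_map N a ea _ la (la.trans (a.preimage_mono ((f i).preimage_mono V.2))),
        pullLE_map N b eb _ lb (lb.trans (b.preimage_mono ((f j).preimage_mono V.2)))]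
      exact hs i j Y a b hY ea eb O _ _
  choose nV hnV using hex
  have hres : ∀ (V : A) (W : S.Opens) (hW : W ≤ V.1.1) (i : ι), puSec (f i) (AmpleLib.res N hW (nV V)) =
      (pb (f i) N).presheaf.map (homOfLE ((f i).preimage_mono (hW.trans V.2))).op (s i) := fun V W hW i => by
    rw [← puSecLE_rfl N (AmpleLib.res N hW (nV V)), CubeLib.puSecLE_res, KFlatLib.puSecLE_apply, hnV,
      ← ConcreteCategory.comp_apply, ← Functor.map_comp]
    rfl
  obtain ⟨n, hn⟩ := AVThetaLib.exists_glue' (N := N) (V := U) (fun V : A => V.1.1) (fun V => V.2) (fun x hx => by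
      obtain ⟨W, hW, hxW, hWU⟩ := exists_isAffineOpen_mem_and_subset hx
      exact ⟨⟨⟨W, hW⟩, hWU⟩, hxW⟩) nV (fun V V' => section_ext f (DescLib.ofArrows_surj hf) N _ _ fun i => by
      rw [hres, hres])
  refine ⟨n, fun i => ?_⟩
  refine TopCat.Presheaf.section_ext ((QCohLib.toAbF (X i)).obj (pb (f i) N) : TopCat.Sheaf AddCommGrpCat _)
    (f i ⁻¹ᵁ U) _ _ fun x hx => ?_
  obtain ⟨W, hW, hxW, hWU⟩ := exists_isAffineOpen_mem_and_subset (show f i x ∈ U from hx)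
  let V : A := ⟨⟨W, hW⟩, hWU⟩
  have h1 := congrArg ((pb (f i) N).presheaf.germ (f i ⁻¹ᵁ W) x hxW) (hnV V i)
  rw [← hn V, ← puSecLE_rfl N (AmpleLib.res N V.2 n), CubeLib.puSecLE_res, KFlatLib.puSecLE_apply,
    TopCat.Presheaf.germ_res_apply, TopCat.Presheaf.germ_res_apply] at h1
  exact h1

end QCohDescLib
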