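import Groth.Agent.QCohDescLib.Family
import Groth.Prelude.Def_Desc

/-!
# Morphisms of quasi-coherent modules descend along fpqc families
-/

set_option autoImplicit false
set_option linter.style.haveILetI false
set_option maxHeartbeats 800000

noncomputable section

universe u v

open CategoryTheory CategoryTheory.Limits AlgebraicGeometry TopologicalSpace Opposite
open KFlatLib (pb puSec puSecLE)

namespace QCohDescLib

/-- The comparison of the pseudofunctor of modules is the comparison of pullbacks. -/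
theorem mapComp'_inv_app {X S Y : Scheme.{u}} (f : X ⟶ S) (g : Y ⟶ X) (q : Y ⟶ S) (e : g ≫ f = q)
    (h : f.op.toLoc ≫ g.op.toLoc = q.op.toLoc) (M : S.Modules) :
    (Desc.modPF.{u}.mapComp' f.op.toLoc g.op.toLoc q.op.toLoc h).inv.toNatTrans.app M = (compIso M g e).hom := by
  subst e
  change (Desc.modPF.{u}.mapComp' f.op.toLoc g.op.toLoc (f.op.toLoc ≫ g.op.toLoc) rfl).inv.toNatTrans.app M = _
  rw [Pseudofunctor.mapComp'_eq_mapComp]
  simp [Desc.modPF, compIso, Scheme.Modules.pullbackCongr]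
  rfl

theorem mapComp'_hom_app {X S Y : Scheme.{u}} (f : X ⟶ S) (g : Y ⟶ X) (q : Y ⟶ S) (e : g ≫ f = q)
    (h : f.op.toLoc ≫ g.op.toLoc = q.op.toLoc) (M : S.Modules) :
    (Desc.modPF.{u}.mapComp' f.op.toLoc g.op.toLoc q.op.toLoc h).hom.toNatTrans.app M = (compIso M g e).inv := by
  have h1 : ((Cat.Hom.toNatIso (Desc.modPF.{u}.mapComp' f.op.toLoc g.op.toLoc q.op.toLoc h)).app M).symm =
      compIso M g e := Iso.ext (mapComp'_inv_app f g q e h M)
  exact congrArg Iso.inv h1

variable {ι : Type u} {S : Scheme.{u}} {X : ι → Scheme.{u}} (f : ∀ i, X i ⟶ S)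

/-- The canonical datum on a module. -/
theorem toDescentData_hom (M : S.Modules) ⦃Y : Scheme.{u}⦄ (q : Y ⟶ S) ⦃i j : ι⦄ (a : Y ⟶ X i) (b : Y ⟶ X j)
    (ha : a ≫ f i = q) (hb : b ≫ f j = q) :
    ((Desc.modPF.{u}.toDescentData f).obj M).hom q a b ha hb = (compIso M a ha).hom ≫ (compIso M b hb).inv := by
  exact congrArg₂ (· ≫ ·) (mapComp'_inv_app (f i) a q ha _ M) (mapComp'_hom_app (f j) b q hb _ M)

theorem eq_of_pullback_map_eq [∀ i, Flat (f i)] (hsurj : ∀ s : S, ∃ i, s ∈ Set.range (f i)) {M N : S.Modules}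
    (φ ψ : M ⟶ N) (h : ∀ i, (Scheme.Modules.pullback (f i)).map φ = (Scheme.Modules.pullback (f i)).map ψ) :
    φ = ψ := by
  refine Scheme.Modules.hom_ext _ _ fun U => AddCommGrpCat.ext fun m => section_ext f hsurj N _ _ fun i => ?_
  rw [← KFlatLib.puSec_natural, ← KFlatLib.puSec_natural, h i]

theorem exists_hom_descend (hf : Presieve.ofArrows X f ∈ Scheme.fpqcPrecoverage S) (M N : S.Modules)
    [Coh.IsQCoh N] (φ : ∀ i, pb (f i) M ⟶ pb (f i) N)
    (hφ : ∀ i j (Y : Scheme.{u}) (a : Y ⟶ X i) (b : Y ⟶ X j) (q : Y ⟶ S) (ea : a ≫ f i = q) (eb : b ≫ f j = q),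
      (Scheme.Modules.pullback a).map (φ i) ≫ (compIso N a ea).hom ≫ (compIso N b eb).inv =
        ((compIso M a ea).hom ≫ (compIso M b eb).inv) ≫ (Scheme.Modules.pullback b).map (φ j)) :
    ∃ ψ : M ⟶ N, ∀ i, (Scheme.Modules.pullback (f i)).map ψ = φ i := by
  haveI : ∀ i, Flat (f i) := fun i => DescLib.ofArrows_flat hf i
  have hsurj := DescLib.ofArrows_surj hf
  -- the maps commute with pulling sections
  have hpull : ∀ i j (Y : Scheme.{u}) (a : Y ⟶ X i) (b : Y ⟶ X j) (q : Y ⟶ S) (ea : a ≫ f i = q) (eb : b ≫ f j = q)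
      (U : S.Opens) (m : Γ(M, U)) (O : Y.Opens) (la : O ≤ a ⁻¹ᵁ (f i ⁻¹ᵁ U)) (lb : O ≤ b ⁻¹ᵁ (f j ⁻¹ᵁ U)),
      pullLE N a ea la ((φ i).app _ (puSec (f i) m)) = pullLE N b eb lb ((φ j).app _ (puSec (f j) m)) := by
    intro i j Y a b q ea eb U m O la lb
    have lq : O ≤ q ⁻¹ᵁ U := by subst ea; exact la
    have key := congr($(congrArg (fun ψ => Scheme.Modules.Hom.app ψ O) (hφ i j Y a b q ea eb))
      (puSecLE a (pb (f i) M) la (puSec (f i) m)))
    have h1 : ∀ (k : ι) (c : Y ⟶ X k) (ec : c ≫ f k = q) (lc : O ≤ c ⁻¹ᵁ (f k ⁻¹ᵁ U)),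
        (compIso M c ec).hom.app O (puSecLE c (pb (f k) M) lc (puSec (f k) m)) = puSecLE q M lq m := fun k c ec lc => by
      rw [← pullLE_eq_compIso, ← puSecLE_rfl M m]
      exact pullLE_puSecLE M c ec le_rfl lc lq m
    have h2 : ((compIso M a ea).hom ≫ (compIso M b eb).inv).app O (puSecLE a (pb (f i) M) la (puSec (f i) m)) =
        puSecLE b (pb (f j) M) lb (puSec (f j) m) := by
      show (compIso M b eb).inv.app O ((compIso M a ea).hom.app O _) = _
      rw [h1 i a ea la, ← h1 j b eb lb]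
      exact congr($(congrArg (fun ψ => Scheme.Modules.Hom.app ψ O) (compIso M b eb).hom_inv_id) _)
    refine (ConcreteCategory.bijective_of_isIso ((compIso N b eb).inv.app O)).1 ?_
    rw [pullLE_eq_compIso, pullLE_eq_compIso, ← CohCmpLib.puSecLE_natural, ← CohCmpLib.puSecLE_natural]
    refine (key.trans ?_).trans
      (congr($(congrArg (fun ψ => Scheme.Modules.Hom.app ψ O) (compIso N b eb).hom_inv_id) _)).symm
    exact congrArg (((Scheme.Modules.pullback b).map (φ j)).app O) h2
  have hex : ∀ (U : S.Opens) (m : Γ(M, U)), ∃ n : Γ(N, U), ∀ i, puSec (f i) n = (φ i).app _ (puSec (f i) m) :=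
    fun U m => exists_descend_section f hf N U _ fun i j Y a b q ea eb O la lb =>
      hpull i j Y a b q ea eb U m O la lb
  choose v hv using hex
  have hv' : ∀ (U : S.Opens) (m : Γ(M, U)) (n : Γ(N, U)), (∀ i, puSec (f i) n = (φ i).app _ (puSec (f i) m)) →
      v U m = n := fun U m n h => section_ext f hsurj N _ _ fun i => (hv U m i).trans (h i).symm
  let c : ∀ U : S.Opens, Γ(M, U) →+ Γ(N, U) := fun U => AddMonoidHom.mk' (v U) fun m m' => hv' U _ _ fun i => by
    show ((Scheme.Modules.pullbackPushforwardAdjunction (f i)).unit.app N).app U (v U m + v U m') =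
      (φ i).app _ (((Scheme.Modules.pullbackPushforwardAdjunction (f i)).unit.app M).app U (m + m'))
    rw [map_add, map_add]
    exact (congrArg₂ (· + ·) (hv U m i) (hv U m' i)).trans (map_add ((φ i).app (f i ⁻¹ᵁ U)).hom _ _).symm
  refine ⟨⟨PresheafOfModules.homMk
    { app := fun U => AddCommGrpCat.ofHom (c U.unop)
      naturality := fun U V g => AddCommGrpCat.ext fun m => by
        refine hv' V.unop _ _ fun i => ?_
        show puSec (f i) (N.presheaf.map g (v U.unop m)) = (φ i).app _ (puSec (f i) (M.presheaf.map g m))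
        have hg : g = (homOfLE g.unop.le).op := rfl
        have e : ∀ (P : S.Modules) (p : Γ(P, U.unop)), puSec (f i) (P.presheaf.map g p) =
            (pb (f i) P).presheaf.map (homOfLE ((f i).preimage_mono g.unop.le)).op (puSec (f i) p) := fun P p =>
          congr($(((Scheme.Modules.pullbackPushforwardAdjunction (f i)).unit.app P).mapPresheaf.naturality g) p)
        rw [e, e, hv, QCohLib.app_map] }
    fun U r m => hv' U.unop ((show Γ(S, U.unop) from r) • m) ((show Γ(S, U.unop) from r) • v U.unop m) fun i => by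
      exact (KFlatLib.puSec_smul (f i) _ (v U.unop m)).trans ((congrArg (_ • ·) (hv U.unop m i)).trans
        ((QCohLib.app_smul (φ i) _ _ _).symm.trans (congrArg ((φ i).app _) (KFlatLib.puSec_smul (f i) _ m).symm)))⟩, fun i => ?_⟩
  refine hom_ext_puSec M fun U m => ?_
  refine (KFlatLib.puSec_natural (f i) _ m).trans ?_
  exact hv U m i

theorem bijective_toDescentData_map (hf : Presieve.ofArrows X f ∈ Scheme.fpqcPrecoverage S) (M N : S.Modules)
    [Coh.IsQCoh N] : Function.Bijective ((Desc.modPF.{u}.toDescentData f).map : (M ⟶ N) → _) := by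
  haveI : ∀ i, Flat (f i) := fun i => DescLib.ofArrows_flat hf i
  refine ⟨fun φ ψ h => eq_of_pullback_map_eq f (DescLib.ofArrows_surj hf) φ ψ fun i =>
    congrArg (fun t => Pseudofunctor.DescentData.Hom.hom t i) h, fun Φ => ?_⟩
  obtain ⟨ψ, hψ⟩ := exists_hom_descend f hf M N (fun i => Φ.hom i) fun i j Y a b q ea eb => by
    have h := Φ.comm q a b ea eb
    rw [toDescentData_hom f N q a b ea eb, toDescentData_hom f M q a b ea eb] at h
    exact h
  exact ⟨ψ, Pseudofunctor.DescentData.hom_ext hψ⟩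

end QCohDescLib
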