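import Groth.Agent.QCohDescLib.Affine
import Groth.Agent.QCohLib.Local

/-!
# Quasi-coherence descends along flat surjective quasi-compact morphisms
-/

set_option autoImplicit false
set_option linter.style.haveILetI false

noncomputable section

universe u

open CategoryTheory CategoryTheory.Limits AlgebraicGeometry TopologicalSpace Opposite
open KFlatLib (pb)

namespace QCohDescLib

theorem isQCoh_of_pullback_affine {X Y : Scheme.{u}} [IsAffine X] [IsAffine Y] (f : X ⟶ Y) [Flat f] [Surjective f]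
    (M : Y.Modules) (h : Coh.IsQCoh (pb f M)) : Coh.IsQCoh M := by
  let g := X.isoSpec.inv ≫ f ≫ Y.isoSpec.hom
  obtain ⟨φ, hφ⟩ : ∃ φ, Spec.map φ = g := ⟨Spec.preimage g, Spec.map_preimage g⟩
  haveI : Flat g := inferInstanceAs (Flat (X.isoSpec.inv ≫ f ≫ Y.isoSpec.hom))
  haveI : Surjective g := inferInstanceAs (Surjective (X.isoSpec.inv ≫ f ≫ Y.isoSpec.hom))
  letI := φ.hom.toAlgebra
  haveI : Flat (Spec.map φ) := by rw [hφ]; infer_instance
  haveI : Surjective (Spec.map φ) := by rw [hφ]; infer_instance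
  haveI : Module.Flat Γ(Y, ⊤) Γ(X, ⊤) := by
    have h1 : φ.hom.Flat := (HasRingHomProperty.Spec_iff (P := @Flat)).1 inferInstance
    exact h1
  haveI : Module.FaithfullyFlat Γ(Y, ⊤) Γ(X, ⊤) :=
    Module.FaithfullyFlat.of_comap_surjective (Spec.map φ).surjective
  let M' := pb Y.isoSpec.inv M
  have e : qmap Γ(Y, ⊤) Γ(X, ⊤) ≫ Y.isoSpec.inv = X.isoSpec.inv ≫ f := by
    show Spec.map φ ≫ _ = _
    rw [hφ]
    simp [g]
  haveI : Coh.IsQCoh (pb (qmap Γ(Y, ⊤) Γ(X, ⊤)) M') := by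
    haveI := KFlatLib.isQCoh_pullback X.isoSpec.inv (pb f M)
    exact QCohLib.isQCoh_of_iso ((compIso M X.isoSpec.inv (h := f) rfl) ≪≫
      (compIso M (qmap Γ(Y, ⊤) Γ(X, ⊤)) e).symm)
  haveI := isQCoh_of_pullback_spec Γ(Y, ⊤) Γ(X, ⊤) M'
  haveI := KFlatLib.isQCoh_pullback Y.isoSpec.hom M'
  exact QCohLib.isQCoh_of_iso ((compIso M Y.isoSpec.hom (h := Y.isoSpec.inv) (Y.isoSpec.hom_inv_id)) ≪≫
    (Scheme.Modules.pullbackId Y).app M)

/-- Quasi-coherence descends along flat surjective quasi-compact morphisms. -/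
theorem isQCoh_of_pullback {X Y : Scheme.{u}} (f : X ⟶ Y) [Flat f] [Surjective f] [QuasiCompact f]
    (M : Y.Modules) (h : Coh.IsQCoh (pb f M)) : Coh.IsQCoh M := by
  refine QCohLib.isQCoh_of_cover M (fun U : Y.affineOpens => U.1) (iSup_affineOpens_eq_top Y) fun U => ?_
  haveI : IsAffine (U.1 : Scheme.{u}) := U.2
  let g := f ∣_ U.1
  haveI : CompactSpace (f ⁻¹ᵁ U.1 : X.Opens) := isCompact_iff_compactSpace.1
    (QuasiCompact.isCompact_preimage (f := f) U.1 U.1.isOpen U.2.isCompact)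
  haveI : CompactSpace ↥((f ⁻¹ᵁ U.1 : X.Opens) : Scheme.{u}) := this
  let 𝒰 := ((f ⁻¹ᵁ U.1 : X.Opens) : Scheme.{u}).affineCover.finiteSubcover
  haveI : ∀ i, IsAffine (𝒰.X i) := fun i => by dsimp [𝒰]; infer_instance
  let q : ∐ 𝒰.X ⟶ (f ⁻¹ᵁ U.1 : X.Opens) := Sigma.desc 𝒰.f
  haveI : Flat q := IsZariskiLocalAtSource.sigmaDesc (P := @Flat) fun i => inferInstance
  haveI : Surjective q := ⟨fun x => by
    obtain ⟨i, y, hy⟩ := 𝒰.exists_eq x
    exact ⟨Sigma.ι 𝒰.X i y, by rw [← Scheme.Hom.comp_apply, Sigma.ι_desc]; exact hy⟩⟩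
  let N := pb U.1.ι M
  haveI : Surjective g := MorphismProperty.of_isPullback (P := @Surjective) (isPullback_morphismRestrict f U.1).flip inferInstance
  haveI : Coh.IsQCoh N := by
    refine isQCoh_of_pullback_affine (q ≫ g) N ?_
    haveI := KFlatLib.isQCoh_pullback (q ≫ (f ⁻¹ᵁ U.1).ι) (pb f M)
    refine QCohLib.isQCoh_of_iso ((compIso M (q ≫ (f ⁻¹ᵁ U.1).ι) (h := f) rfl) ≪≫
      (compIso M (q ≫ g) (h := U.1.ι) ?_).symm)
    simp [g, morphismRestrict_ι]
  exact QCohLib.isQCoh_of_iso ((Scheme.Modules.restrictFunctorIsoPullback U.1.ι).app M).symm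

end QCohDescLib
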