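import Groth.Agent.QCohDescLib.Family
import Groth.Agent.AlgSpLib.SrcLocal

/-!
# Sections descend along finite families of quasi-compact flat morphisms covering an open
-/

set_option autoImplicit false
set_option linter.style.haveILetI false
set_option backward.isDefEq.respectTransparency false
set_option backward.isDefEq.respectTransparency.types false
set_option maxHeartbeats 800000

noncomputable section

universe u v

open CategoryTheory CategoryTheory.Limits AlgebraicGeometry TopologicalSpace Opposite TensorProduct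
open KFlatLib (pb puSec puSecLE)

namespace QCohDescLib

variable {X : Scheme.{u}} {κ : Type u} {P : κ → Scheme.{u}} (c : ∀ k, P k ⟶ X)

/-- Sections are determined by their pullbacks along flat maps covering their domain. -/
theorem puSecLE_injective_of_flat [∀ k, Flat (c k)] (N : X.Modules) {O : X.Opens}
    (hcov : ∀ x ∈ O, ∃ k z, c k z = x) (s t : Γ(N, O))
    (h : ∀ k, puSecLE (c k) N (le_refl (c k ⁻¹ᵁ O)) s = puSecLE (c k) N (le_refl (c k ⁻¹ᵁ O)) t) : s = t := by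
  refine TopCat.Presheaf.section_ext ((QCohLib.toAbF X).obj N : TopCat.Sheaf AddCommGrpCat _) O s t fun x hx => ?_
  obtain ⟨k, z, rfl⟩ := hcov x hx
  have h2 := congrArg ((pb (c k) N).presheaf.germ (c k ⁻¹ᵁ O) z hx) (h k)
  rw [puSecLE_rfl, puSecLE_rfl, ← KFlatLib.stalkPullInv_germ, ← KFlatLib.stalkPullInv_germ] at h2
  letI := ((c k).stalkMap z).hom.toAlgebra
  haveI := FpqcPCLib.ff_stalkMap (c k) z
  exact Module.FaithfullyFlat.tensorProduct_mk_injective (A := X.presheaf.stalk (c k z))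
    (B := (P k).presheaf.stalk z) (N.presheaf.stalk (c k z))
    ((ConcreteCategory.bijective_of_isIso ((KFlatLib.stalkPullIso (c k) z).inv.app N)).1 h2)

theorem ofArrows_mem_of_finite [Finite κ] [∀ k, Flat (c k)] [∀ k, QuasiCompact (c k)]
    (hsurj : ∀ x, ∃ k, x ∈ Set.range (c k)) : Presieve.ofArrows P c ∈ Scheme.fpqcPrecoverage X := by
  refine AlgSpLib.ofArrows_mem_fpqcPrecoverage (fun k => inferInstance) hsurj ⟨fun {Z} hZ => ?_⟩
  refine IsCompactOpenCovered.of_finite (κ := κ) id (fun k => c k ⁻¹ᵁ Z)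
    (fun k => QuasiCompact.isCompact_preimage (f := c k) Z Z.isOpen hZ.isCompact) ?_
  ext x
  constructor
  · intro h
    simp only [id, Set.mem_iUnion, Set.mem_image] at h
    obtain ⟨k, y, hy, rfl⟩ := h
    exact hy
  · intro hx
    obtain ⟨k, y, rfl⟩ := hsurj x
    exact Set.mem_iUnion.2 ⟨k, y, hx, rfl⟩

/-- Sections of a quasi-coherent module over an open descend along a finite flat quasi-compact covering of it. -/
theorem exists_descend_finite [Finite κ] [∀ k, Flat (c k)] (N : X.Modules) [Coh.IsQCoh N] {O : X.Opens}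
    (hcov : ∀ x ∈ O, ∃ k z, c k z = x)
    (hqc : ∀ k (W : X.Opens), IsAffineOpen W → W ≤ O → IsCompact ((c k ⁻¹ᵁ W : (P k).Opens) : Set (P k)))
    (σ : ∀ k, Γ(pb (c k) N, c k ⁻¹ᵁ O))
    (hσ : ∀ k l (Y : Scheme.{u}) (a : Y ⟶ P k) (b : Y ⟶ P l) (hY : Y ⟶ X) (ea : a ≫ c k = hY) (eb : b ≫ c l = hY)
      (O' : Y.Opens) (la : O' ≤ a ⁻¹ᵁ (c k ⁻¹ᵁ O)) (lb : O' ≤ b ⁻¹ᵁ (c l ⁻¹ᵁ O)),
      pullLE N a ea la (σ k) = pullLE N b eb lb (σ l)) :
    ∃ n : Γ(N, O), ∀ k, puSecLE (c k) N (le_refl (c k ⁻¹ᵁ O)) n = σ k := by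
  let c' := fun k => c k ∣_ O
  haveI : ∀ k, Flat (c' k) := fun k =>
    MorphismProperty.of_isPullback (P := @Flat) (isPullback_morphismRestrict (c k) O).flip inferInstance
  haveI : ∀ k, QuasiCompact (c' k) := fun k => by
    refine quasiCompact_iff_forall_isAffineOpen.mpr fun W hW => ?_
    have hcpt := hqc k (O.ι ''ᵁ W) (hW.image_of_isOpenImmersion O.ι) (O.ι_image_le W)
    refine ((c k ⁻¹ᵁ O).ι.isOpenEmbedding.isInducing.isCompact_iff).2 ?_
    rw [← image_morphismRestrict_preimage] at hcpt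
    exact hcpt
  have hf := ofArrows_mem_of_finite c' (fun x => by
    obtain ⟨k, z, hz⟩ := hcov x.1 x.2
    exact ⟨k, ⟨z, show c k z ∈ O by rw [hz]; exact x.2⟩, Subtype.ext (by
      show (c' k ≫ O.ι) _ = x.1
      rw [morphismRestrict_ι]
      exact hz)⟩)
  let M := pb O.ι N
  haveI : Coh.IsQCoh M := KFlatLib.isQCoh_pullback O.ι N
  have e : ∀ k, c' k ≫ O.ι = (c k ⁻¹ᵁ O).ι ≫ c k := fun k => morphismRestrict_ι (c k) O
  let τ : ∀ k, Γ(pb (c' k) M, c' k ⁻¹ᵁ ⊤) := fun k => (compIso N (c' k) (h := O.ι) rfl).inv.app _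
    (pullLE N (c k ⁻¹ᵁ O).ι (e k).symm (O := c k ⁻¹ᵁ O) (fun y _ => y.2) (σ k))
  have hτ : ∀ k, (compIso N (c' k) (h := O.ι) rfl).hom.app _ (τ k) =
      pullLE N (c k ⁻¹ᵁ O).ι (e k).symm (O := c k ⁻¹ᵁ O) (fun y _ => y.2) (σ k) := fun k =>
    congr($(congrArg (fun φ => Scheme.Modules.Hom.app φ (c' k ⁻¹ᵁ ⊤))
      (compIso N (c' k) (h := O.ι) rfl).inv_hom_id) _)
  obtain ⟨n, hn⟩ := exists_descend_section c' hf M ⊤ τ fun k l Y a b hY ea eb O' la lb => by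
    refine (ConcreteCategory.bijective_of_isIso ((compIso N hY (h := O.ι) rfl).hom.app O')).1 ?_
    rw [compIso_pullLE N O.ι a ea (by rw [reassoc_of% ea]) la, compIso_pullLE N O.ι b eb (by rw [reassoc_of% eb]) lb,
      hτ, hτ]
    have ea' : (a ≫ (c k ⁻¹ᵁ O).ι) ≫ c k = hY ≫ O.ι := by rw [Category.assoc, ← e k, reassoc_of% ea]
    have eb' : (b ≫ (c l ⁻¹ᵁ O).ι) ≫ c l = hY ≫ O.ι := by rw [Category.assoc, ← e l, reassoc_of% eb]
    rw [pullLE_pullLE N (c k ⁻¹ᵁ O).ι a _ _ ea' _ la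
        (show O' ≤ (a ≫ (c k ⁻¹ᵁ O).ι) ⁻¹ᵁ (c k ⁻¹ᵁ O) from fun y _ => (a y).2),
      pullLE_pullLE N (c l ⁻¹ᵁ O).ι b _ _ eb' _ lb
        (show O' ≤ (b ≫ (c l ⁻¹ᵁ O).ι) ⁻¹ᵁ (c l ⁻¹ᵁ O) from fun y _ => (b y).2)]
    exact hσ _ _ _ _ _ _ _ _ _ _ _
  obtain ⟨n₀, hn₀⟩ := (SeesawLib.puSecLE_bijective O.ι N (W := ⊤) (U := O) (fun y _ => y.2) (by
    rw [Scheme.Hom.image_top_eq_opensRange, Scheme.Opens.opensRange_ι])).2 n
  refine ⟨n₀, fun k => ?_⟩
  refine pullLE_injective N (fun _ : PUnit.{1} => (c k ⁻¹ᵁ O).ι) (fun _ => (e k).symm)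
    (fun _ => c' k ⁻¹ᵁ ⊤) (fun _ => show c' k ⁻¹ᵁ ⊤ ≤ (c k ⁻¹ᵁ O).ι ⁻¹ᵁ (c k ⁻¹ᵁ O) from fun y _ => y.2) (fun z hz => ⟨PUnit.unit, ⟨z, hz⟩, trivial, rfl⟩) _ _ fun _ => ?_
  rw [← hτ k, ← hn k, ← hn₀, pullLE_puSecLE N (c k ⁻¹ᵁ O).ι (e k).symm le_rfl _ (fun y _ => (c' k y).2),
    ← puSecLE_rfl M (puSecLE O.ι N _ n₀), ← pullLE_eq_compIso]
  exact (pullLE_puSecLE N (c' k) rfl _ le_rfl _ n₀).symm

end QCohDescLib
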