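import Groth.Agent.QCohDescLib.Pull
import Groth.Agent.RpushLib.HBase

/-!
# Flat base change of a finite Čech sequence
-/

set_option autoImplicit false
set_option linter.style.haveILetI false
set_option backward.isDefEq.respectTransparency false
set_option backward.isDefEq.respectTransparency.types false
set_option maxHeartbeats 800000

noncomputable section

universe u v

open CategoryTheory CategoryTheory.Limits AlgebraicGeometry TopologicalSpace Opposite TensorProduct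
open KFlatLib (pb puSec puSecLE)

namespace QCohDescLib

section Algebra

variable {A B : Type u} [CommRing A] [CommRing B] [Algebra A B] {n : ℕ}

theorem eq_zero_of_proj_lTensor {κ : Type*} [Fintype κ] [DecidableEq κ] {Q : κ → Type u} [∀ l, AddCommGroup (Q l)]
    [∀ l, Module A (Q l)] (z : B ⊗[A] (∀ l, Q l))
    (h : ∀ l, (LinearMap.proj (R := A) (φ := Q) l).lTensor B z = 0) : z = 0 := by
  have e : (∑ l, LinearMap.single A Q l ∘ₗ LinearMap.proj l) = LinearMap.id :=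
    LinearMap.ext fun q => by
      simp only [LinearMap.sum_apply, LinearMap.comp_apply, LinearMap.proj_apply, LinearMap.id_apply]
      exact Finset.univ_sum_single q
  have h1 : ∀ l, (LinearMap.single A Q l ∘ₗ LinearMap.proj l).lTensor B z = 0 := fun l => by
    rw [LinearMap.lTensor_comp_apply, h, map_zero]
  rw [← LinearMap.lTensor_id_apply B (∀ l, Q l) z, ← e, ← LinearMap.coe_lTensorHom, map_sum, LinearMap.sum_apply]
  exact Finset.sum_eq_zero fun l _ => h1 l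

variable [Module.Flat A B] {M : Type u} [AddCommGroup M] [Module A M] {Q : Fin n → Type u}
  [∀ l, AddCommGroup (Q l)] [∀ l, Module A (Q l)] {R : Fin n → Fin n → Type u}
  [∀ l m, AddCommGroup (R l m)] [∀ l m, Module A (R l m)]

/-- The kernel of a finite Čech sequence, after a flat extension of scalars. -/
theorem bijective_of_cech (T : ∀ l, M →ₗ[A] Q l) (α : ∀ l m, Q l →ₗ[A] R l m) (β : ∀ l m, Q m →ₗ[A] R l m)
    (hT : ∀ x y, (∀ l, T l x = T l y) → x = y) (hcomp : ∀ x l m, α l m (T l x) = β l m (T m x))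
    (hex : ∀ q : ∀ l, Q l, (∀ l m, α l m (q l) = β l m (q m)) → ∃ x, ∀ l, T l x = q l)
    {G : Type u} [AddCommGroup G] {H : Fin n → Type u} [∀ l, AddCommGroup (H l)]
    {I : Fin n → Fin n → Type u} [∀ l m, AddCommGroup (I l m)]
    (Φ : B ⊗[A] M →+ G) (c : ∀ l, G →+ H l) (hc : ∀ y z, (∀ l, c l y = c l z) → y = z)
    (e : ∀ l, B ⊗[A] Q l →+ H l) (he : ∀ l, Function.Bijective (e l))
    (γ : ∀ l m, H l →+ I l m) (γ' : ∀ l m, H m →+ I l m)
    (e' : ∀ l m, B ⊗[A] R l m →+ I l m) (he' : ∀ l m, Function.Injective (e' l m))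
    (hΦ : ∀ b x l, c l (Φ (b ⊗ₜ x)) = e l (b ⊗ₜ T l x))
    (hα : ∀ b l m q, γ l m (e l (b ⊗ₜ q)) = e' l m (b ⊗ₜ α l m q))
    (hβ : ∀ b l m q, γ' l m (e m (b ⊗ₜ q)) = e' l m (b ⊗ₜ β l m q))
    (hcc : ∀ y l m, γ l m (c l y) = γ' l m (c m y)) : Function.Bijective Φ := by
  let P := ∀ lm : Fin n × Fin n, R lm.1 lm.2
  let Tp : M →ₗ[A] (∀ l, Q l) := LinearMap.pi T
  let δ : (∀ l, Q l) →ₗ[A] P := LinearMap.pi fun lm : Fin n × Fin n =>
    α lm.1 lm.2 ∘ₗ LinearMap.proj lm.1 - β lm.1 lm.2 ∘ₗ LinearMap.proj lm.2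
  have hex' : Function.Exact Tp δ := fun q => by
    constructor
    · intro h
      obtain ⟨x, hx⟩ := hex q fun l m => sub_eq_zero.1 (congrFun h (l, m))
      exact ⟨x, funext hx⟩
    · rintro ⟨x, rfl⟩
      exact funext fun lm => sub_eq_zero.2 (hcomp x lm.1 lm.2)
  have hinj : Function.Injective Tp := fun x y h => hT x y (congrFun h)
  have hexB := Module.Flat.lTensor_exact (M := B) hex'
  have hinjB := Module.Flat.lTensor_preserves_injective_linearMap (M := B) Tp hinj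
  have hproj : ∀ l (μ : B ⊗[A] M), (LinearMap.proj (R := A) (φ := Q) l).lTensor B (Tp.lTensor B μ) = (T l).lTensor B μ :=
    fun l μ => (LinearMap.lTensor_comp_apply B _ _ μ).symm
  have k1 : ∀ l μ, c l (Φ μ) = e l ((T l).lTensor B μ) := fun l μ => by
    induction μ using TensorProduct.induction_on with
    | zero => simp only [map_zero]
    | tmul b x => exact hΦ b x l
    | add x y hx hy => simp only [map_add, hx, hy]
  have k2 : ∀ l m ξ, γ l m (e l ξ) = e' l m ((α l m).lTensor B ξ) := fun l m ξ => by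
    induction ξ using TensorProduct.induction_on with
    | zero => simp only [map_zero]
    | tmul b x => exact hα b l m x
    | add x y hx hy => simp only [map_add, hx, hy]
  have k3 : ∀ l m ξ, γ' l m (e m ξ) = e' l m ((β l m).lTensor B ξ) := fun l m ξ => by
    induction ξ using TensorProduct.induction_on with
    | zero => simp only [map_zero]
    | tmul b x => exact hβ b l m x
    | add x y hx hy => simp only [map_add, hx, hy]
  constructor
  · refine (injective_iff_map_eq_zero Φ).2 fun μ hμ => hinjB ?_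
    rw [map_zero]
    refine eq_zero_of_proj_lTensor _ fun l => (he l).1 ?_
    rw [hproj, ← k1, hμ, map_zero, map_zero]
  · intro y
    choose ξ hξ using fun l => (he l).2 (c l y)
    let z := ∑ l, (LinearMap.single A Q l).lTensor B (ξ l)
    have hz : ∀ l, (LinearMap.proj (R := A) (φ := Q) l).lTensor B z = ξ l := fun l => by
      rw [map_sum, Finset.sum_eq_single l]
      · rw [← LinearMap.lTensor_comp_apply, LinearMap.proj_comp_single_same, LinearMap.lTensor_id_apply]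
      · intro m _ hm
        rw [← LinearMap.lTensor_comp_apply, LinearMap.proj_comp_single_ne A Q l m (Ne.symm hm)]
        simp
      · intro h; exact absurd (Finset.mem_univ l) h
    have h0 : δ.lTensor B z = 0 := by
      refine eq_zero_of_proj_lTensor _ fun lm => ?_
      rw [← LinearMap.lTensor_comp_apply, LinearMap.proj_pi, LinearMap.lTensor_sub, LinearMap.sub_apply,
        LinearMap.lTensor_comp_apply, LinearMap.lTensor_comp_apply, hz, hz, sub_eq_zero]
      refine he' _ _ ?_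
      rw [← k2, ← k3, hξ, hξ, hcc]
    obtain ⟨μ, hμ⟩ := (hexB z).1 h0
    refine ⟨μ, hc _ _ fun l => ?_⟩
    rw [k1, ← hproj, hμ, hz, hξ]

end Algebra

/-- Sections of a pullback to a fibre product of affine opens. -/
theorem exists_bc {S Vs Y P X₀ : Scheme.{u}} {p : Vs ⟶ S} {q : Y ⟶ S} {pY : P ⟶ Y} {pV : P ⟶ Vs}
    (H : IsPullback pY pV q p) {U : S.Opens} (hU : IsAffineOpen U) {OY : Y.Opens} (hY : IsAffineOpen OY)
    (leY : OY ≤ q ⁻¹ᵁ U) {OV : Vs.Opens} (hV : IsAffineOpen OV) (leV : OV ≤ p ⁻¹ᵁ U) {O : P.Opens}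
    (hO : O = pY ⁻¹ᵁ OY ⊓ pV ⁻¹ᵁ OV) (l1 : O ≤ pY ⁻¹ᵁ OY) (l2 : O ≤ pV ⁻¹ᵁ OV) (M₀ : X₀.Modules) [Coh.IsQCoh M₀]
    (h : Y ⟶ X₀) (z : P ⟶ X₀) (ez : pY ≫ h = z)
    [Algebra Γ(S, U) Γ(Vs, OV)] (halg : ∀ r, algebraMap Γ(S, U) Γ(Vs, OV) r = p.appLE U OV leV r)
    [Module Γ(S, U) Γ(pb h M₀, OY)] (hsm : ∀ (r : Γ(S, U)) (x : Γ(pb h M₀, OY)), r • x = q.appLE U OY leY r • x) :
    ∃ e : Γ(Vs, OV) ⊗[Γ(S, U)] Γ(pb h M₀, OY) →+ Γ(pb z M₀, O), Function.Bijective e ∧
      ∀ b x, e (b ⊗ₜ x) = pV.appLE OV O l2 b • pullLE M₀ pY ez l1 x := by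
  subst hO
  let O := pY ⁻¹ᵁ OY ⊓ pV ⁻¹ᵁ OV
  let N := pb h M₀
  haveI : Coh.IsQCoh N := KFlatLib.isQCoh_pullback h M₀
  have hO : IsAffineOpen O := RpushLib.isAffineOpen_fibre H hU hV leV hY leY
  have hpo := RpushLib.isPushout_sections H hU hV leV hY leY
  letI : Algebra Γ(S, U) Γ(Y, OY) := (q.appLE U OY leY).hom.toAlgebra
  letI : Algebra Γ(Vs, OV) Γ(P, O) := (pV.appLE OV O inf_le_right).hom.toAlgebra
  letI : Algebra Γ(Y, OY) Γ(P, O) := (pY.appLE OY O inf_le_left).hom.toAlgebra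
  letI : Algebra Γ(S, U) Γ(P, O) := ((pV.appLE OV O inf_le_right).hom.comp (algebraMap Γ(S, U) Γ(Vs, OV))).toAlgebra
  haveI : IsScalarTower Γ(S, U) Γ(Vs, OV) Γ(P, O) := IsScalarTower.of_algebraMap_eq fun _ => rfl
  haveI : IsScalarTower Γ(S, U) Γ(Y, OY) Γ(P, O) := IsScalarTower.of_algebraMap_eq fun r => by
    show pV.appLE OV O inf_le_right (algebraMap Γ(S, U) Γ(Vs, OV) r) = pY.appLE OY O inf_le_left (q.appLE U OY leY r)
    rw [halg, ← ConcreteCategory.comp_apply, ← ConcreteCategory.comp_apply, hpo.w]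
  have halg' : algebraMap Γ(S, U) Γ(Vs, OV) = (p.appLE U OV leV).hom := RingHom.ext halg
  haveI : Algebra.IsPushout Γ(S, U) Γ(Vs, OV) Γ(Y, OY) Γ(P, O) := by
    refine (CommRingCat.isPushout_iff_isPushout (R := Γ(S, U)) (S := Γ(Y, OY)) (R' := Γ(Vs, OV)) (S' := Γ(P, O))).mp ?_
    rw [halg']
    exact hpo.flip
  haveI : IsScalarTower Γ(S, U) Γ(Y, OY) Γ(N, OY) := IsScalarTower.of_algebraMap_smul fun r x => (hsm r x).symm
  letI : Module Γ(Y, OY) Γ(pb pY N, O) := Module.compHom _ (pY.appLE OY O inf_le_left).hom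
  haveI : IsScalarTower Γ(Y, OY) Γ(P, O) Γ(pb pY N, O) := IsScalarTower.of_algebraMap_smul fun _ _ => rfl
  let Ψ : Γ(N, OY) →ₗ[Γ(Y, OY)] Γ(pb pY N, O) :=
    { toFun := puSecLE pY N inf_le_left
      map_add' := map_add _
      map_smul' := fun r m => KFlatLib.puSecLE_smul pY N inf_le_left r m }
  have hbc := KFlatLib.isBaseChange_puSec pY N hY hO inf_le_left (fun _ => rfl) Ψ fun _ => rfl
  let c : Γ(Vs, OV) ⊗[Γ(S, U)] Γ(N, OY) ≃ₗ[Γ(Vs, OV)] Γ(P, O) ⊗[Γ(Y, OY)] Γ(N, OY) :=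
    (Algebra.IsPushout.cancelBaseChange Γ(S, U) Γ(Vs, OV) Γ(Y, OY) Γ(P, O) Γ(N, OY)).symm
  let e : Γ(Vs, OV) ⊗[Γ(S, U)] Γ(N, OY) →+ Γ(pb z M₀, O) :=
    ((compIso M₀ pY ez).hom.app O).hom.comp (hbc.equiv.toAddMonoidHom.comp c.toAddMonoidHom)
  refine ⟨e, (ConcreteCategory.bijective_of_isIso ((compIso M₀ pY ez).hom.app O)).comp
    (hbc.equiv.bijective.comp c.bijective), fun b x => ?_⟩
  show (compIso M₀ pY ez).hom.app O (hbc.equiv ((Algebra.IsPushout.cancelBaseChange Γ(S, U) Γ(Vs, OV) Γ(Y, OY) Γ(P, O) Γ(N, OY)).symm (b ⊗ₜ x))) = _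
  rw [Algebra.IsPushout.cancelBaseChange_symm_tmul, IsBaseChange.equiv_tmul, QCohLib.app_smul, pullLE_eq_compIso]
  rfl

end QCohDescLib
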