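import Groth.Agent.QCohDescLib.QCoh
import Groth.Agent.QCohDescLib.CechBC
import Groth.Agent.CohBCLib.LocFreeSec

/-!
# The comparison with the datum is invertible
-/

set_option autoImplicit false
set_option linter.style.haveILetI false
set_option backward.isDefEq.respectTransparency false
set_option backward.isDefEq.respectTransparency.types false
set_option maxHeartbeats 1000000

noncomputable section

universe u v

open CategoryTheory CategoryTheory.Limits AlgebraicGeometry TopologicalSpace Opposite TensorProduct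
open KFlatLib (pb puSec puSecLE)

namespace QCohDescLib

theorem isIso_of_pullback_family {κ : Type u} {W : Scheme.{u}} {P : κ → Scheme.{u}} (c : ∀ k, P k ⟶ W)
    [∀ k, Flat (c k)] (hcov : ∀ x, ∃ k z, c k z = x) {M N : W.Modules} (φ : M ⟶ N)
    (h : ∀ k, IsIso ((Scheme.Modules.pullback (c k)).map φ)) : IsIso φ := by
  refine KFlatLib.isIso_of_stalks φ fun y => ?_
  obtain ⟨k, x, rfl⟩ := hcov y
  letI := ((c k).stalkMap x).hom.toAlgebra
  haveI := FpqcPCLib.ff_stalkMap (c k) x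
  let ψ := (DerSch.stalkFunctor W (c k x)).map φ
  have hb : Function.Bijective ((ModuleCat.extendScalars.{u, u, u} ((c k).stalkMap x).hom).map ψ) := by
    haveI : IsIso ((ModuleCat.extendScalars.{u, u, u} ((c k).stalkMap x).hom).map ψ) := by
      haveI := h k
      have h0 : IsIso ((Scheme.Modules.pullback (c k) ⋙ DerSch.stalkFunctor (P k) x).map φ) :=
        inferInstanceAs (IsIso ((DerSch.stalkFunctor (P k) x).map ((Scheme.Modules.pullback (c k)).map φ)))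
      exact (NatIso.isIso_map_iff (KFlatLib.stalkPullIso (c k) x) φ).1 h0
    exact ConcreteCategory.bijective_of_isIso _
  have hl : Function.Bijective (ψ.hom.lTensor ((P k).presheaf.stalk x)) := hb
  exact (ConcreteCategory.isIso_iff_bijective ψ).2
    ((Module.FaithfullyFlat.lTensor_bijective_iff_bijective (W.presheaf.stalk (c k x)) ((P k).presheaf.stalk x) ψ.hom).1 hl)

theorem compIso_inv_puSecLE {S W W' : Scheme.{u}} (N : S.Modules) (g : W' ⟶ W) (h : W ⟶ S) {U : S.Opens}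
    (m : Γ(N, U)) :
    (compIso N g (h := h) rfl).inv.app ((g ≫ h) ⁻¹ᵁ U) (puSecLE (g ≫ h) N le_rfl m) =
      puSecLE g (pb h N) (le_refl (g ⁻¹ᵁ (h ⁻¹ᵁ U))) (puSec h m) := by
  refine (ConcreteCategory.bijective_of_isIso ((compIso N g (h := h) rfl).hom.app ((g ≫ h) ⁻¹ᵁ U))).1 ?_
  refine (congr($(congrArg (fun ψ => Scheme.Modules.Hom.app ψ ((g ≫ h) ⁻¹ᵁ U))
    (compIso N g (h := h) rfl).inv_hom_id) _)).trans ?_
  rw [← puSecLE_rfl N m (h := h)]
  refine Eq.trans ?_ (pullLE_eq_compIso N g (h := h) rfl (le_refl (g ⁻¹ᵁ (h ⁻¹ᵁ U))) _)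
  exact (pullLE_puSecLE N g (h := h) rfl le_rfl le_rfl le_rfl m).symm

variable {ι : Type u} {S : Scheme.{u}} {X : ι → Scheme.{u}} {f : ∀ i, X i ⟶ S}
  (D : Desc.modPF.{u}.DescentData f)

namespace Refine

variable {U : S.Opens} (R : Refine f U)

/-- The comparison with the datum on a member of the refinement. -/
def E (k : Fin R.m) : pb (R.p k) (dMod D) ⟶ R.mo D k :=
  (compIso (dMod D) (R.o k) (h := f (R.idx k)) rfl).inv ≫ (Scheme.Modules.pullback (R.o k)).map (evI D (R.idx k))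

theorem E_puSecLE (k : Fin R.m) (W : S.Opens) (s : Γ(dMod D, W)) :
    (R.E D k).app (R.p k ⁻¹ᵁ W) (puSecLE (R.p k) (dMod D) le_rfl s) = R.T D W k s := by
  rw [T_apply]
  refine (congrArg (((Scheme.Modules.pullback (R.o k)).map (evI D (R.idx k))).app (R.p k ⁻¹ᵁ W))
    (compIso_inv_puSecLE (dMod D) (R.o k) (f (R.idx k)) s)).trans ?_
  refine (CohCmpLib.puSecLE_natural (R.o k) (evI D (R.idx k)) (le_refl (R.o k ⁻¹ᵁ (f (R.idx k) ⁻¹ᵁ W))) _).trans ?_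
  exact congrArg (puSecLE (R.o k) (dObj D (R.idx k)) le_rfl) (evI_puSec D (R.idx k) s)

theorem pullLE_tr_fst {k l : Fin R.m} {Y : Scheme.{u}} (u : Y ⟶ R.V k) (r : Y ⟶ R.Y2 k l) (a : Y ⟶ X (R.idx k))
    (b : Y ⟶ X (R.idx l)) (r1 : r ≫ pullback.fst (R.p k) (R.p l) = u) (ea : u ≫ R.o k = a)
    (eb : r ≫ R.la2 k l = b) (hab : a ≫ f (R.idx k) = b ≫ f (R.idx l)) {O₁ : (R.V k).Opens} {O : Y.Opens}
    (lr : O ≤ r ⁻¹ᵁ (pullback.fst (R.p k) (R.p l) ⁻¹ᵁ O₁)) (lu : O ≤ u ⁻¹ᵁ O₁) (y : Γ(R.mo D k, O₁)) :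
    pullLE (dObj D (R.idx l)) r eb lr (tr D (R.la1 k l) (R.la2 k l) (R.la_comm k l) _
      (pullLE (dObj D (R.idx k)) (pullback.fst (R.p k) (R.p l)) rfl le_rfl y)) =
    tr D a b hab O (pullLE (dObj D (R.idx k)) u ea lu y) := by
  have ra : r ≫ R.la1 k l = a := by rw [← Category.assoc, r1, ea]
  rw [← tr_pullLE D r _ _ (R.la_comm k l) a b ra eb hab lr,
    pullLE_pullLE _ (pullback.fst (R.p k) (R.p l)) r rfl ra (by rw [r1, ea]) le_rfl lr lr]
  exact congrArg (tr D a b hab O) (pullLE_congr _ r1 _ _ _ _ _)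

/-- The overlap over the open. -/
abbrev O2 (U : S.Opens) (R : Refine f U) (k l : Fin R.m) : (R.Y2 k l).Opens :=
  pullback.fst (R.p k) (R.p l) ⁻¹ᵁ (R.p k ⁻¹ᵁ U)

/-- An overlap, over the base. -/
abbrev q2 (a b : Fin R.m) : R.Y2 a b ⟶ S := pullback.fst (R.p a) (R.p b) ≫ R.p a

/-- A triple overlap. -/
abbrev P3 (k a b : Fin R.m) : Scheme.{u} := pullback (R.q2 a b) (R.p k)

/-- The triple overlap over the open. -/
abbrev O3 (U : S.Opens) (R : Refine f U) (k a b : Fin R.m) : (R.P3 k a b).Opens :=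
  pullback.fst (R.q2 a b) (R.p k) ⁻¹ᵁ O2 U R a b ⊓ pullback.snd (R.q2 a b) (R.p k) ⁻¹ᵁ (R.p k ⁻¹ᵁ U)

/-- The map of a triple overlap to the datum. -/
abbrev z3 (k a b : Fin R.m) : R.P3 k a b ⟶ X (R.idx b) := pullback.fst (R.q2 a b) (R.p k) ≫ R.la2 a b

theorem cond₁ (k a b : Fin R.m) : pullback.snd (R.q2 a b) (R.p k) ≫ R.p k =
    (pullback.fst (R.q2 a b) (R.p k) ≫ pullback.fst (R.p a) (R.p b)) ≫ R.p a :=
  pullback.condition.symm.trans (Category.assoc _ _ _).symm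

theorem cond₂ (k a b : Fin R.m) : pullback.snd (R.q2 a b) (R.p k) ≫ R.p k =
    (pullback.fst (R.q2 a b) (R.p k) ≫ pullback.snd (R.p a) (R.p b)) ≫ R.p b :=
  (R.cond₁ k a b).trans ((Category.assoc _ _ _).trans
    ((congrArg (pullback.fst (R.q2 a b) (R.p k) ≫ ·) pullback.condition).trans (Category.assoc _ _ _).symm))

/-- The first face. -/
def r₁ (k a b : Fin R.m) : R.P3 k a b ⟶ R.Y2 k a :=
  pullback.lift (pullback.snd (R.q2 a b) (R.p k)) _ (R.cond₁ k a b)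

/-- The second face. -/
def r₂ (k a b : Fin R.m) : R.P3 k a b ⟶ R.Y2 k b :=
  pullback.lift (pullback.snd (R.q2 a b) (R.p k)) _ (R.cond₂ k a b)

theorem r₁_fst (k a b : Fin R.m) : R.r₁ k a b ≫ pullback.fst (R.p k) (R.p a) = pullback.snd (R.q2 a b) (R.p k) :=
  pullback.lift_fst _ _ _

theorem r₁_snd (k a b : Fin R.m) : R.r₁ k a b ≫ pullback.snd (R.p k) (R.p a) =
    pullback.fst (R.q2 a b) (R.p k) ≫ pullback.fst (R.p a) (R.p b) :=
  pullback.lift_snd _ _ _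

theorem r₂_fst (k a b : Fin R.m) : R.r₂ k a b ≫ pullback.fst (R.p k) (R.p b) = pullback.snd (R.q2 a b) (R.p k) :=
  pullback.lift_fst _ _ _

theorem r₂_snd (k a b : Fin R.m) : R.r₂ k a b ≫ pullback.snd (R.p k) (R.p b) =
    pullback.fst (R.q2 a b) (R.p k) ≫ pullback.snd (R.p a) (R.p b) :=
  pullback.lift_snd _ _ _

theorem r₁_la (k a b : Fin R.m) : R.r₁ k a b ≫ R.la2 k a = pullback.fst (R.q2 a b) (R.p k) ≫ R.la1 a b := by
  rw [← Category.assoc, r₁_snd, Category.assoc]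

theorem r₂_la (k a b : Fin R.m) : R.r₂ k a b ≫ R.la2 k b = R.z3 k a b := by
  rw [← Category.assoc, r₂_snd, Category.assoc]

theorem le_r₁ (k a b : Fin R.m) : O3 U R k a b ≤ R.r₁ k a b ⁻¹ᵁ O2 U R k a := fun y hy => by
  show (R.r₁ k a b ≫ pullback.fst (R.p k) (R.p a)) y ∈ R.p k ⁻¹ᵁ U
  rw [r₁_fst]; exact hy.2

theorem le_r₂ (k a b : Fin R.m) : O3 U R k a b ≤ R.r₂ k a b ⁻¹ᵁ O2 U R k b := fun y hy => by
  show (R.r₂ k a b ≫ pullback.fst (R.p k) (R.p b)) y ∈ R.p k ⁻¹ᵁ U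
  rw [r₂_fst]; exact hy.2

theorem z3_comm (k a b : Fin R.m) :
    (pullback.fst (R.q2 a b) (R.p k) ≫ R.la1 a b) ≫ f (R.idx a) = R.z3 k a b ≫ f (R.idx b) :=
  (Category.assoc _ _ _).trans
    ((congrArg (pullback.fst (R.q2 a b) (R.p k) ≫ ·) (R.la_comm a b)).trans (Category.assoc _ _ _).symm)

/-- Restriction along the first face. -/
irreducible_def γ₁ (k a b : Fin R.m) :
    Γ(pb (R.la2 k a) (dObj D (R.idx a)), O2 U R k a) →+ Γ(pb (R.z3 k a b) (dObj D (R.idx b)), O3 U R k a b) :=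
  (tr D (pullback.fst (R.q2 a b) (R.p k) ≫ R.la1 a b) (R.z3 k a b) (R.z3_comm k a b) (O3 U R k a b)).comp
    (pullLE (dObj D (R.idx a)) (R.r₁ k a b) (R.r₁_la k a b) (R.le_r₁ k a b))

/-- Restriction along the second face. -/
irreducible_def γ₂ (k a b : Fin R.m) :
    Γ(pb (R.la2 k b) (dObj D (R.idx b)), O2 U R k b) →+ Γ(pb (R.z3 k a b) (dObj D (R.idx b)), O3 U R k a b) :=
  pullLE (dObj D (R.idx b)) (R.r₂ k a b) (R.r₂_la k a b) (R.le_r₂ k a b)

/-- Transport of a section on a member to an overlap. -/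
irreducible_def cMap (k l : Fin R.m) :
    Γ(R.mo D k, R.p k ⁻¹ᵁ U) →+ Γ(pb (R.la2 k l) (dObj D (R.idx l)), O2 U R k l) :=
  (tr D (R.la1 k l) (R.la2 k l) (R.la_comm k l) (O2 U R k l)).comp
    (pullLE (dObj D (R.idx k)) (pullback.fst (R.p k) (R.p l)) rfl le_rfl)

theorem cMap_apply (k l : Fin R.m) (y : Γ(R.mo D k, R.p k ⁻¹ᵁ U)) :
    R.cMap D k l y = tr D (R.la1 k l) (R.la2 k l) (R.la_comm k l) (O2 U R k l)
      (pullLE (dObj D (R.idx k)) (pullback.fst (R.p k) (R.p l)) rfl le_rfl y) := by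
  rw [cMap_def]; rfl

theorem cMap_injective (k : Fin R.m) (y z : Γ(R.mo D k, R.p k ⁻¹ᵁ U))
    (h : R.cMap D k k y = R.cMap D k k z) : y = z := by
  let Δ := pullback.lift (𝟙 (R.V k)) (𝟙 _) (rfl : 𝟙 _ ≫ R.p k = 𝟙 _ ≫ R.p k)
  have eb : Δ ≫ R.la2 k k = R.o k := by rw [← Category.assoc, pullback.lift_snd, Category.id_comp]
  have lΔ : R.p k ⁻¹ᵁ U ≤ Δ ⁻¹ᵁ O2 U R k k := fun v hv => by
    show (Δ ≫ pullback.fst (R.p k) (R.p k)) v ∈ R.p k ⁻¹ᵁ U
    rw [pullback.lift_fst]; exact hv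
  have key := congrArg (pullLE (dObj D (R.idx k)) Δ eb lΔ) h
  rw [cMap_apply, cMap_apply,
    R.pullLE_tr_fst D (𝟙 _) Δ (R.o k) (R.o k) (pullback.lift_fst _ _ _) (Category.id_comp _) eb rfl lΔ le_rfl y,
    R.pullLE_tr_fst D (𝟙 _) Δ (R.o k) (R.o k) (pullback.lift_fst _ _ _) (Category.id_comp _) eb rfl lΔ le_rfl z,
    tr_self, tr_self] at key
  exact (pullLE_id _ _ _ _).symm.trans (key.trans (pullLE_id _ _ _ _))

theorem cMap_T (k l : Fin R.m) (b : Γ(R.V k, R.p k ⁻¹ᵁ U)) (x : Γ(dMod D, U)) :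
    R.cMap D k l (b • R.T D U k x) = (pullback.fst (R.p k) (R.p l)).appLE (R.p k ⁻¹ᵁ U) (O2 U R k l) le_rfl b •
      pullLE (dObj D (R.idx l)) (pullback.snd (R.p k) (R.p l)) rfl (R.le_snd U k l) (R.T D U l x) := by
  rw [cMap_apply, pullLE_smul, tr_smul]
  congr 1
  exact R.finGlued_T D U x k l _ _ _ _ _ rfl rfl (R.la_comm k l) _ le_rfl (R.le_snd U k l)

theorem γ₁_smul (k a a' : Fin R.m) (b : Γ(R.V k, R.p k ⁻¹ᵁ U)) (x : Γ(R.mo D a, R.p a ⁻¹ᵁ U)) :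
    R.γ₁ D k a a' ((pullback.fst (R.p k) (R.p a)).appLE (R.p k ⁻¹ᵁ U) (O2 U R k a) le_rfl b •
      pullLE (dObj D (R.idx a)) (pullback.snd (R.p k) (R.p a)) rfl (R.le_snd U k a) x) =
    (pullback.snd (R.q2 a a') (R.p k)).appLE (R.p k ⁻¹ᵁ U) (O3 U R k a a') inf_le_right b •
      pullLE (dObj D (R.idx a')) (pullback.fst (R.q2 a a') (R.p k)) rfl inf_le_left
        (tr D (R.la1 a a') (R.la2 a a') (R.la_comm a a') (O2 U R a a')
          (pullLE (dObj D (R.idx a)) (pullback.fst (R.p a) (R.p a')) rfl le_rfl x)) := by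
  rw [γ₁_def, AddMonoidHom.comp_apply, pullLE_smul, tr_smul, ← ConcreteCategory.comp_apply,
    Scheme.Hom.appLE_comp_appLE]
  refine congrArg₂ (· • ·) ?_ ?_
  · simp only [r₁_fst]
  rw [pullLE_pullLE _ (pullback.snd (R.p k) (R.p a)) (R.r₁ k a a') rfl (R.r₁_la k a a')
      (by rw [r₁_snd, Category.assoc]) (R.le_snd U k a) (R.le_r₁ k a a')
      (show O3 U R k a a' ≤ (R.r₁ k a a' ≫ pullback.snd (R.p k) (R.p a)) ⁻¹ᵁ (R.p a ⁻¹ᵁ U) from
        (R.le_r₁ k a a').trans ((R.r₁ k a a').preimage_mono (R.le_snd U k a))) x,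
    ← tr_pullLE D (pullback.fst (R.q2 a a') (R.p k)) _ _ (R.la_comm a a')
      (pullback.fst (R.q2 a a') (R.p k) ≫ R.la1 a a') (R.z3 k a a') rfl rfl (R.z3_comm k a a') inf_le_left,
    pullLE_pullLE _ (pullback.fst (R.p a) (R.p a')) (pullback.fst (R.q2 a a') (R.p k)) rfl rfl (Category.assoc _ _ _)
      (O := R.p a ⁻¹ᵁ U) (O' := O2 U R a a') (O'' := O3 U R k a a') le_rfl inf_le_left
      (show O3 U R k a a' ≤ (pullback.fst (R.q2 a a') (R.p k) ≫ pullback.fst (R.p a) (R.p a')) ⁻¹ᵁ (R.p a ⁻¹ᵁ U) from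
        fun y hy => hy.1)]
  exact congrArg (tr D (pullback.fst (R.q2 a a') (R.p k) ≫ R.la1 a a') (R.z3 k a a') (R.z3_comm k a a')
    (O3 U R k a a')) (pullLE_congr _ (R.r₁_snd k a a') _ _ _ _ _)

theorem γ₂_smul (k a a' : Fin R.m) (b : Γ(R.V k, R.p k ⁻¹ᵁ U)) (x : Γ(R.mo D a', R.p a' ⁻¹ᵁ U)) :
    R.γ₂ D k a a' ((pullback.fst (R.p k) (R.p a')).appLE (R.p k ⁻¹ᵁ U) (O2 U R k a') le_rfl b •
      pullLE (dObj D (R.idx a')) (pullback.snd (R.p k) (R.p a')) rfl (R.le_snd U k a') x) =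
    (pullback.snd (R.q2 a a') (R.p k)).appLE (R.p k ⁻¹ᵁ U) (O3 U R k a a') inf_le_right b •
      pullLE (dObj D (R.idx a')) (pullback.fst (R.q2 a a') (R.p k)) (h := R.la2 a a') (h' := R.z3 k a a') rfl
        (O := O2 U R a a') (O' := O3 U R k a a') inf_le_left
        (pullLE (dObj D (R.idx a')) (pullback.snd (R.p a) (R.p a')) rfl (R.le_snd U a a') x) := by
  rw [γ₂_def, pullLE_smul, ← ConcreteCategory.comp_apply, Scheme.Hom.appLE_comp_appLE]
  refine congrArg₂ (· • ·) ?_ ?_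
  · simp only [r₂_fst]
  exact pullLE_pullLE_eq _ (R.r₂ k a a') (pullback.snd (R.p k) (R.p a')) (pullback.fst (R.q2 a a') (R.p k))
    (pullback.snd (R.p a) (R.p a')) (R.r₂_snd k a a') rfl rfl (R.r₂_la k a a') rfl (R.le_snd U k a')
    (R.le_snd U a a') (R.le_r₂ k a a') inf_le_left x

theorem γ_cMap (k a b : Fin R.m) (y : Γ(R.mo D k, R.p k ⁻¹ᵁ U)) :
    R.γ₁ D k a b (R.cMap D k a y) = R.γ₂ D k a b (R.cMap D k b y) := by
  rw [γ₁_def, γ₂_def, AddMonoidHom.comp_apply, cMap_apply, cMap_apply]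
  have hk : (pullback.snd (R.q2 a b) (R.p k) ≫ R.o k) ≫ f (R.idx k) =
      (pullback.fst (R.q2 a b) (R.p k) ≫ R.la1 a b) ≫ f (R.idx a) := by
    rw [Category.assoc, R.cond₁ k a b, Category.assoc, Category.assoc, Category.assoc]
  rw [R.pullLE_tr_fst D (pullback.snd (R.q2 a b) (R.p k)) (R.r₁ k a b) _ _ (R.r₁_fst k a b) rfl (R.r₁_la k a b) hk
      (R.le_r₁ k a b) inf_le_right y,
    R.pullLE_tr_fst D (pullback.snd (R.q2 a b) (R.p k)) (R.r₂ k a b) _ _ (R.r₂_fst k a b) rfl (R.r₂_la k a b)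
      (hk.trans (R.z3_comm k a b)) (R.le_r₂ k a b) inf_le_right y, tr_tr]

theorem α_smul (a b : Fin R.m) (r : Γ(S, U)) (x : Γ(R.mo D a, R.p a ⁻¹ᵁ U)) :
    tr D (R.la1 a b) (R.la2 a b) (R.la_comm a b) (O2 U R a b)
      (pullLE (dObj D (R.idx a)) (pullback.fst (R.p a) (R.p b)) rfl le_rfl ((R.p a).app U r • x)) =
    (R.q2 a b).appLE U (O2 U R a b) le_rfl r • tr D (R.la1 a b) (R.la2 a b) (R.la_comm a b) (O2 U R a b)
      (pullLE (dObj D (R.idx a)) (pullback.fst (R.p a) (R.p b)) rfl le_rfl x) := by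
  rw [pullLE_smul, tr_smul, appLE_app _ (R.p a) rfl le_rfl le_rfl r]

theorem β_smul (a b : Fin R.m) (r : Γ(S, U)) (x : Γ(R.mo D b, R.p b ⁻¹ᵁ U)) :
    pullLE (dObj D (R.idx b)) (pullback.snd (R.p a) (R.p b)) rfl (R.le_snd U a b) ((R.p b).app U r • x) =
    (R.q2 a b).appLE U (O2 U R a b) le_rfl r •
      pullLE (dObj D (R.idx b)) (pullback.snd (R.p a) (R.p b)) rfl (R.le_snd U a b) x := by
  rw [pullLE_smul, appLE_app _ (R.p b) pullback.condition.symm (R.le_snd U a b) le_rfl r]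

variable [hD : ∀ i, Coh.IsQCoh (dObj D i)]

theorem exists_cech (hU : IsAffineOpen U) (k : Fin R.m) :
    letI : Algebra Γ(S, U) Γ(R.V k, R.p k ⁻¹ᵁ U) := ((R.p k).app U).hom.toAlgebra
    ∃ Φ : Γ(R.V k, R.p k ⁻¹ᵁ U) ⊗[Γ(S, U)] Γ(dMod D, U) →+ Γ(R.mo D k, R.p k ⁻¹ᵁ U),
      Function.Bijective Φ ∧ ∀ b s, Φ (b ⊗ₜ s) = b • R.T D U k s := by
  letI : Algebra Γ(S, U) Γ(R.V k, R.p k ⁻¹ᵁ U) := ((R.p k).app U).hom.toAlgebra
  haveI : Module.Flat Γ(S, U) Γ(R.V k, R.p k ⁻¹ᵁ U) := by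
    haveI := R.flat k
    have h1 : ((R.p k).app U).hom.Flat := by
      rw [Scheme.Hom.app_eq_appLE]
      exact HasRingHomProperty.appLE (P := @Flat) (R.p k) inferInstance ⟨U, hU⟩ ⟨_, R.isAffineOpen_preimage k⟩ le_rfl
    exact h1
  have halg : ∀ r : Γ(S, U), algebraMap Γ(S, U) Γ(R.V k, R.p k ⁻¹ᵁ U) r = (R.p k).appLE U (R.p k ⁻¹ᵁ U) le_rfl r :=
    fun r => by rw [← Scheme.Hom.app_eq_appLE]; rfl
  letI instG : Module Γ(S, U) Γ(R.mo D k, R.p k ⁻¹ᵁ U) := Module.compHom _ ((R.p k).app U).hom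
  haveI : IsScalarTower Γ(S, U) Γ(R.V k, R.p k ⁻¹ᵁ U) Γ(R.mo D k, R.p k ⁻¹ᵁ U) :=
    IsScalarTower.of_algebraMap_smul fun _ _ => rfl
  let Tk : Γ(dMod D, U) →ₗ[Γ(S, U)] Γ(R.mo D k, R.p k ⁻¹ᵁ U) :=
    { toFun := R.T D U k, map_add' := map_add _, map_smul' := fun r s => R.T_smul D U k r s }
  let Φ := (Tk.liftBaseChange Γ(R.V k, R.p k ⁻¹ᵁ U)).toAddMonoidHom
  have hΦt : ∀ b s, Φ (b ⊗ₜ s) = b • R.T D U k s := fun b s => LinearMap.liftBaseChange_tmul _ Tk b s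
  refine ⟨Φ, ?_, hΦt⟩
  let Q : Fin R.m → Type u := fun l => Γ(R.mo D l, R.p l ⁻¹ᵁ U)
  let RR : Fin R.m → Fin R.m → Type u := fun a b => Γ(pb (R.la2 a b) (dObj D (R.idx b)), O2 U R a b)
  letI : ∀ l, AddCommGroup (Q l) := fun l => inferInstanceAs (AddCommGroup Γ(R.mo D l, R.p l ⁻¹ᵁ U))
  letI : ∀ a b, AddCommGroup (RR a b) := fun a b =>
    inferInstanceAs (AddCommGroup Γ(pb (R.la2 a b) (dObj D (R.idx b)), O2 U R a b))
  letI : ∀ l, Module Γ(S, U) (Q l) := fun l =>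
    Module.compHom Γ(R.mo D l, R.p l ⁻¹ᵁ U) ((R.p l).app U).hom
  letI : ∀ a b, Module Γ(S, U) (RR a b) := fun a b =>
    Module.compHom Γ(pb (R.la2 a b) (dObj D (R.idx b)), O2 U R a b) ((R.q2 a b).appLE U (O2 U R a b) le_rfl).hom
  let Tl : ∀ l, Γ(dMod D, U) →ₗ[Γ(S, U)] Q l := fun l =>
    { toFun := R.T D U l, map_add' := map_add _, map_smul' := fun r s => R.T_smul D U l r s }
  let α : ∀ a b, Q a →ₗ[Γ(S, U)] RR a b := fun a b =>
    { toFun := fun x => tr D (R.la1 a b) (R.la2 a b) (R.la_comm a b) (O2 U R a b)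
        (pullLE (dObj D (R.idx a)) (pullback.fst (R.p a) (R.p b)) rfl le_rfl x)
      map_add' := fun x y => (congrArg (tr D (R.la1 a b) (R.la2 a b) (R.la_comm a b) (O2 U R a b))
        (map_add (pullLE (dObj D (R.idx a)) (pullback.fst (R.p a) (R.p b)) rfl le_rfl) x y)).trans (map_add _ _ _)
      map_smul' := fun r x => R.α_smul D a b r x }
  let β : ∀ a b, Q b →ₗ[Γ(S, U)] RR a b := fun a b =>
    { toFun := fun x => pullLE (dObj D (R.idx b)) (pullback.snd (R.p a) (R.p b)) rfl (R.le_snd U a b) x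
      map_add' := fun x y => map_add (pullLE (dObj D (R.idx b)) (pullback.snd (R.p a) (R.p b)) rfl (R.le_snd U a b)) x y
      map_smul' := fun r x => R.β_smul D a b r x }
  have hO2 : ∀ a b, IsAffineOpen (O2 U R a b) := fun a b => by
    rw [O2, fst_preimage_self]; exact R.isAffine_Y2 hU a b
  have hbc1 : ∀ l, ∃ e : Γ(R.V k, R.p k ⁻¹ᵁ U) ⊗[Γ(S, U)] Q l →+
      Γ(pb (R.la2 k l) (dObj D (R.idx l)), O2 U R k l), Function.Bijective e ∧ ∀ b x, e (b ⊗ₜ x) =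
        (pullback.fst (R.p k) (R.p l)).appLE (R.p k ⁻¹ᵁ U) (O2 U R k l) le_rfl b •
          pullLE (dObj D (R.idx l)) (pullback.snd (R.p k) (R.p l)) rfl (R.le_snd U k l) x := fun l =>
    exists_bc (IsPullback.of_hasPullback (R.p k) (R.p l)).flip hU (R.isAffineOpen_preimage l) le_rfl
      (R.isAffineOpen_preimage k) le_rfl (inf_eq_right.2 (R.le_snd U k l)).symm (R.le_snd U k l) le_rfl _ (R.o l)
      _ rfl halg (fun r x => by rw [← Scheme.Hom.app_eq_appLE]; rfl)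
  choose e he het using hbc1
  have hbc2 : ∀ a b, ∃ e' : Γ(R.V k, R.p k ⁻¹ᵁ U) ⊗[Γ(S, U)] RR a b →+
      Γ(pb (R.z3 k a b) (dObj D (R.idx b)), O3 U R k a b),
      Function.Bijective e' ∧ ∀ c x, e' (c ⊗ₜ x) =
        (pullback.snd (R.q2 a b) (R.p k)).appLE (R.p k ⁻¹ᵁ U) (O3 U R k a b) inf_le_right c •
          pullLE (dObj D (R.idx b)) (pullback.fst (R.q2 a b) (R.p k)) rfl inf_le_left x := fun a b =>
    exists_bc (IsPullback.of_hasPullback (R.q2 a b) (R.p k)) hU (hO2 a b) le_rfl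
      (R.isAffineOpen_preimage k) le_rfl rfl inf_le_left inf_le_right _ (R.la2 a b) _ rfl halg (fun r x => rfl)
  choose e' he' het' using hbc2
  exact @bijective_of_cech Γ(S, U) Γ(R.V k, R.p k ⁻¹ᵁ U) _ _ _ R.m _ Γ(dMod D, U) _ _ Q _ _ RR _ _ Tl α β
    (fun x y h => R.T_injective D le_rfl x y h)
    (fun x a b => R.finGlued_T D U x a b _ _ _ _ _ rfl rfl (R.la_comm a b) _ le_rfl (R.le_snd U a b))
    (fun q hq => R.exists_of_finGlued D le_rfl hU q (R.finGlued_of D U q hq))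
    Γ(R.mo D k, R.p k ⁻¹ᵁ U) _ (fun l => Γ(pb (R.la2 k l) (dObj D (R.idx l)), O2 U R k l)) _
    (fun a b => Γ(pb (R.z3 k a b) (dObj D (R.idx b)), O3 U R k a b)) _
    Φ (R.cMap D k) (fun y z h => R.cMap_injective D k y z (h k)) e he (R.γ₁ D k) (R.γ₂ D k) e'
    (fun a b => (he' a b).1)
    (fun b x l => ((congrArg (R.cMap D k l) (hΦt b x)).trans (R.cMap_T D k l b x)).trans (het l b (Tl l x)).symm)
    (fun b a a' x => ((congrArg (R.γ₁ D k a a') (het a b x)).trans (R.γ₁_smul D k a a' b x)).trans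
      (het' a a' b (α a a' x)).symm)
    (fun b a a' x => ((congrArg (R.γ₂ D k a a') (het a' b x)).trans (R.γ₂_smul D k a a' b x)).trans
      (het' a a' b (β a a' x)).symm)
    (fun y a b => R.γ_cMap D k a b y)

theorem isIso_E (hf : Presieve.ofArrows X f ∈ Scheme.fpqcPrecoverage S) (hU : IsAffineOpen U) (k : Fin R.m) :
    IsIso (R.E D k) := by
  haveI := isQCoh_dMod D hf
  haveI : Coh.IsQCoh (pb (R.p k) (dMod D)) := KFlatLib.isQCoh_pullback _ _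
  haveI : Coh.IsQCoh (R.mo D k) := KFlatLib.isQCoh_pullback _ _
  letI : Algebra Γ(S, U) Γ(R.V k, R.p k ⁻¹ᵁ U) := ((R.p k).app U).hom.toAlgebra
  obtain ⟨Φ, hΦ, hΦt⟩ := R.exists_cech D hU k
  letI : Module Γ(S, U) Γ(pb (R.p k) (dMod D), R.p k ⁻¹ᵁ U) := Module.compHom _ ((R.p k).app U).hom
  haveI : IsScalarTower Γ(S, U) Γ(R.V k, R.p k ⁻¹ᵁ U) Γ(pb (R.p k) (dMod D), R.p k ⁻¹ᵁ U) :=
    IsScalarTower.of_algebraMap_smul fun _ _ => rfl
  let ψ : Γ(dMod D, U) →ₗ[Γ(S, U)] Γ(pb (R.p k) (dMod D), R.p k ⁻¹ᵁ U) :=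
    { toFun := puSecLE (R.p k) (dMod D) le_rfl
      map_add' := map_add _
      map_smul' := fun r m => by
        show puSecLE (R.p k) (dMod D) le_rfl (r • m) = (R.p k).app U r • puSecLE (R.p k) (dMod D) le_rfl m
        rw [KFlatLib.puSecLE_smul, Scheme.Hom.app_eq_appLE] }
  have hbc := KFlatLib.isBaseChange_puSec (R.p k) (dMod D) hU (R.isAffineOpen_preimage k) le_rfl
    (fun r => by rw [← Scheme.Hom.app_eq_appLE]; rfl) ψ fun _ => rfl
  have key : ∀ x, (R.E D k).app (R.p k ⁻¹ᵁ U) (hbc.equiv x) = Φ x := fun x => by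
    induction x using TensorProduct.induction_on with
    | zero => rw [map_zero, map_zero, map_zero]
    | tmul b s =>
      rw [IsBaseChange.equiv_tmul, QCohLib.app_smul, hΦt]
      exact congrArg (b • ·) (R.E_puSecLE D k U s)
    | add x y hx hy => rw [map_add, map_add, map_add, hx, hy]
  have hb : Function.Bijective ((R.E D k).app (R.p k ⁻¹ᵁ U)) := by
    refine (Function.Bijective.of_comp_iff _ hbc.equiv.bijective).1 ?_
    rwa [show ⇑((R.E D k).app (R.p k ⁻¹ᵁ U)) ∘ ⇑hbc.equiv = ⇑Φ from funext key]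
  refine CohBCLib.isIso_of_bijective_top _ ?_
  rw [← R.preimage_self k]
  exact hb

end Refine

variable [hD : ∀ i, Coh.IsQCoh (dObj D i)] in
theorem isIso_evI (hf : Presieve.ofArrows X f ∈ Scheme.fpqcPrecoverage S) (i : ι) : IsIso (evI D i) := by
  let A := Σ U : S.affineOpens, Fin (exists_refine hf U.2).some.m
  let Rf := fun U : S.affineOpens => (exists_refine hf U.2).some
  let c : ∀ a : A, pullback (f i) ((Rf a.1).p a.2) ⟶ X i := fun a => pullback.fst _ _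
  haveI : ∀ a, Flat (c a) := fun a => by
    haveI := (Rf a.1).flat a.2
    exact inferInstanceAs (Flat (pullback.fst (f i) ((Rf a.1).p a.2)))
  refine isIso_of_pullback_family c (fun x => ?_) _ fun a => ?_
  · obtain ⟨W, hW, hxW, -⟩ := exists_isAffineOpen_mem_and_subset (U := (⊤ : S.Opens)) (x := f i x) trivial
    obtain ⟨k, v, hv⟩ := (Rf ⟨W, hW⟩).cover (f i x) hxW
    obtain ⟨w, hw, -⟩ := Scheme.Pullback.exists_preimage_pullback (f := f i) (g := (Rf ⟨W, hW⟩).p k) x v hv.symm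
    exact ⟨⟨⟨W, hW⟩, k⟩, w, hw⟩
  let R := Rf a.1
  let sn := pullback.snd (f i) (R.p a.2)
  have hs : (sn ≫ R.o a.2) ≫ f (R.idx a.2) = c a ≫ f i := by rw [Category.assoc]; exact pullback.condition.symm
  haveI hE : IsIso ((compIso (dMod D) (R.o a.2) (h := f (R.idx a.2)) rfl).inv ≫
      (Scheme.Modules.pullback (R.o a.2)).map (evI D (R.idx a.2))) := R.isIso_E D hf a.1.2 a.2
  haveI : IsIso ((Scheme.Modules.pullback (R.o a.2)).map (evI D (R.idx a.2))) :=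
    IsIso.of_isIso_comp_left (compIso (dMod D) (R.o a.2) (h := f (R.idx a.2)) rfl).inv _
  haveI : IsIso ((Scheme.Modules.pullback (sn ≫ R.o a.2)).map (evI D (R.idx a.2))) :=
    (NatIso.isIso_map_iff (Scheme.Modules.pullbackComp sn (R.o a.2)) _).1
      (inferInstanceAs (IsIso ((Scheme.Modules.pullback sn).map ((Scheme.Modules.pullback (R.o a.2)).map (evI D (R.idx a.2))))))
  haveI := isIso_dHom D (c a) (sn ≫ R.o a.2) hs.symm
  have key := evI_comm D (c a) (sn ≫ R.o a.2) (c a ≫ f i) rfl hs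
  haveI : IsIso ((Scheme.Modules.pullback (c a)).map (evI D i) ≫ dHom D (c a) (sn ≫ R.o a.2) hs.symm) := by
    rw [show dHom D (c a) (sn ≫ R.o a.2) hs.symm = dHom D (c a) (sn ≫ R.o a.2) ((rfl : c a ≫ f i = c a ≫ f i).trans hs.symm) from rfl, key]
    infer_instance
  exact IsIso.of_isIso_comp_right _ (dHom D (c a) (sn ≫ R.o a.2) hs.symm)

end QCohDescLib
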