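import Groth.Agent.QCohDescLib.Sec
import Groth.Agent.KFlatLib.QCohPull

/-!
# Descended sections give an isomorphism from a pullback
-/

set_option autoImplicit false
set_option linter.style.haveILetI false
set_option maxHeartbeats 800000

noncomputable section

universe u

open CategoryTheory CategoryTheory.Limits AlgebraicGeometry TopologicalSpace Opposite TensorProduct
open KFlatLib (pb puSec puSecLE)

namespace QCohDescLib

theorem counit_puSec {Y W : Scheme.{u}} (q : W ⟶ Y) {K : Y.Modules} {N : W.Modules}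
    (ι : K ⟶ (Scheme.Modules.pushforward q).obj N) (k : Γ(K, ⊤)) :
    (((Scheme.Modules.pullbackPushforwardAdjunction q).homEquiv _ _).symm ι).app ⊤ (puSec q k) = ι.app ⊤ k :=
  congr($(congrArg (fun φ => Scheme.Modules.Hom.app φ ⊤)
    (((Scheme.Modules.pullbackPushforwardAdjunction q).homEquiv _ _).apply_symm_apply ι)) k)

variable (A B : Type u) [CommRing A] [CommRing B] [Algebra A B]

/-- If `ι` is injective on sections with image a submodule descending the target, its adjoint is bijective on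
sections. -/
theorem bijective_adjoint_top (N : (Spec (CommRingCat.of B)).Modules) (K : (Spec (CommRingCat.of A)).Modules)
    [Coh.IsQCoh K] (ι : K ⟶ (Scheme.Modules.pushforward (sp (algebraMap A B))).obj N)
    [Module A (secB N)] [IsScalarTower A B (secB N)] (N₀ : Submodule A (secB N))
    (ι₀ : Γ(K, ⊤) →+ secB N) (hι₀ : ∀ k, ι₀ k = ι.app ⊤ k) (hinj : Function.Injective ι₀)
    (hmem : ∀ x : secB N, x ∈ N₀ ↔ ∃ k : Γ(K, ⊤), ι₀ k = x)
    (hΦ : Function.Bijective ((TensorProduct.lift (Algebra.lsmul A A (secB N)).toLinearMap) ∘ₗ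
      (LinearMap.lTensor B N₀.subtype))) :
    Function.Bijective ((((Scheme.Modules.pullbackPushforwardAdjunction (sp (algebraMap A B))).homEquiv _ _).symm ι).app ⊤) := by
  classical
  have hι_smul : ∀ (a : A) (k : Γ(K, ⊤)), ι₀ (fn A a • k) = a • ι₀ k := fun a k => by
    rw [← algebraMap_smul B a (ι₀ k), hι₀, hι₀]
    show ι.app ⊤ (fn A a • k) = fn B (algebraMap A B a) • (show Γ(N, ⊤) from ι.app ⊤ k)
    rw [QCohLib.app_smul, fn_map]
    rfl
  choose kN hkN using fun n : N₀ => (hmem n.1).1 n.2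
  -- sections of the pullback of the kernel
  have hle : (⊤ : (Spec (CommRingCat.of B)).Opens) ≤ (sp (algebraMap A B)) ⁻¹ᵁ ⊤ := le_rfl
  letI : Algebra Γ(Spec (CommRingCat.of A), ⊤) Γ(Spec (CommRingCat.of B), ⊤) := (Scheme.Hom.appLE (sp (algebraMap A B)) ⊤ ⊤ hle).hom.toAlgebra
  letI : Module Γ(Spec (CommRingCat.of A), ⊤) Γ(pb (sp (algebraMap A B)) K, ⊤) := Module.compHom _ (Scheme.Hom.appLE (sp (algebraMap A B)) ⊤ ⊤ hle).hom
  haveI : IsScalarTower Γ(Spec (CommRingCat.of A), ⊤) Γ(Spec (CommRingCat.of B), ⊤) Γ(pb (sp (algebraMap A B)) K, ⊤) :=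
    IsScalarTower.of_algebraMap_smul fun _ _ => rfl
  let ψ : Γ(K, ⊤) →ₗ[Γ(Spec (CommRingCat.of A), ⊤)] Γ(pb (sp (algebraMap A B)) K, ⊤) :=
    { toFun := puSecLE (sp (algebraMap A B)) K hle
      map_add' := map_add _
      map_smul' := fun c m => KFlatLib.puSecLE_smul (sp (algebraMap A B)) K hle c m }
  have hψ : IsBaseChange Γ(Spec (CommRingCat.of B), ⊤) ψ := KFlatLib.isBaseChange_puSec (sp (algebraMap A B)) K
    (isAffineOpen_top _) (isAffineOpen_top _) hle (fun _ => rfl) ψ fun _ => rfl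
  have hψ0 : ∀ k, ψ k = puSec (sp (algebraMap A B)) k := fun k => congr($((pb (sp (algebraMap A B)) K).presheaf.map_id _) (puSec (sp (algebraMap A B)) k))
  have hc : ∀ k, (((Scheme.Modules.pullbackPushforwardAdjunction (sp (algebraMap A B))).homEquiv _ _).symm ι).app ⊤ (ψ k) = ι₀ k := fun k => by
    rw [hψ0, hι₀]; exact counit_puSec (sp (algebraMap A B)) ι k
  let J : B ⊗[A] N₀ →+ Γ(pb (sp (algebraMap A B)) K, ⊤) := TensorProduct.liftAddHom
    (AddMonoidHom.mk' (fun b : B => AddMonoidHom.mk' (fun n : N₀ => fn B b • ψ (kN n)) fun n n' => by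
        rw [show kN (n + n') = kN n + kN n' from hinj (by rw [map_add, hkN, hkN, hkN]; rfl), map_add, smul_add])
      fun b b' => AddMonoidHom.ext fun n => by
        show fn B (b + b') • ψ (kN n) = _
        rw [map_add, add_smul]
        rfl)
    fun a b n => by
      show fn B (a • b) • ψ (kN n) = fn B b • ψ (kN (a • n))
      have h1 : kN (a • n) = fn A a • kN n := hinj (by rw [hι_smul, hkN, hkN]; rfl)
      rw [h1, ψ.map_smul, ← algebraMap_smul Γ(Spec (CommRingCat.of B), ⊤) (fn A a) (ψ (kN n)), ← mul_smul]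
      congr 1
      show fn B (a • b) = fn B b * (Scheme.Hom.appLE (sp (algebraMap A B)) ⊤ ⊤ hle) (fn A a)
      rw [Algebra.smul_def, map_mul, mul_comm, fn_map]
      exact congrArg (fn B b * ·) (congr($((Spec (CommRingCat.of B)).presheaf.map_id _) ((sp (algebraMap A B)).appTop (fn A a)))).symm
  let Φ := (TensorProduct.lift (Algebra.lsmul A A (secB N)).toLinearMap) ∘ₗ (LinearMap.lTensor B N₀.subtype)
  have hcJ : ∀ z, (((Scheme.Modules.pullbackPushforwardAdjunction (sp (algebraMap A B))).homEquiv _ _).symm ι).app ⊤ (J z) = Φ z := fun z => by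
    induction z using TensorProduct.induction_on with
    | zero => rw [map_zero, map_zero, map_zero]; rfl
    | tmul b n =>
      show (((Scheme.Modules.pullbackPushforwardAdjunction (sp (algebraMap A B))).homEquiv _ _).symm ι).app ⊤ (fn B b • ψ (kN n)) = fn B b • (show Γ(N, ⊤) from n.1)
      rw [QCohLib.app_smul, hc, hkN]
    | add a b ha hb => rw [map_add, map_add, ha, hb]; exact (map_add Φ a b).symm
  have hJ : Function.Surjective J := fun x => by
    induction x using hψ.inductionOn with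
    | zero => exact ⟨0, map_zero J⟩
    | tmul k =>
      refine ⟨(1 : B) ⊗ₜ[A] ⟨ι₀ k, (hmem _).2 ⟨k, rfl⟩⟩, ?_⟩
      show fn B 1 • ψ (kN _) = _
      rw [map_one, one_smul]
      exact congrArg ψ (hinj (hkN _))
    | smul s x hx =>
      obtain ⟨z, rfl⟩ := hx
      obtain ⟨b, rfl⟩ := (ConcreteCategory.bijective_of_isIso (Scheme.ΓSpecIso (CommRingCat.of B)).inv).2 s
      refine ⟨b • z, ?_⟩
      induction z using TensorProduct.induction_on with
      | zero => rw [smul_zero, map_zero, smul_zero]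
      | tmul c n =>
        rw [TensorProduct.smul_tmul']
        show fn B (b • c) • ψ (kN n) = fn B b • (fn B c • ψ (kN n))
        rw [smul_eq_mul, map_mul, mul_smul]
      | add a c ha hc => rw [smul_add, map_add, map_add, smul_add, ha, hc]
    | add x y hx hy =>
      obtain ⟨a, rfl⟩ := hx
      obtain ⟨b, rfl⟩ := hy
      exact ⟨a + b, map_add J a b⟩
  refine ⟨fun x y h => ?_, fun p => ?_⟩
  · obtain ⟨a, rfl⟩ := hJ x
    obtain ⟨b, rfl⟩ := hJ y
    rw [hcJ, hcJ] at h
    exact congrArg J (hΦ.1 h)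
  · obtain ⟨z, hz⟩ := hΦ.2 p
    exact ⟨J z, (hcJ z).trans hz⟩

end QCohDescLib
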