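import Groth.Agent.FpqcPCLib.Main

/-!
# Pullback along a flat surjective morphism reflects isomorphisms
-/

set_option autoImplicit false
set_option linter.style.haveILetI false
set_option backward.isDefEq.respectTransparency false
set_option backward.isDefEq.respectTransparency.types false

noncomputable section

universe u

open CategoryTheory CategoryTheory.Limits AlgebraicGeometry TensorProduct

namespace QCohDescLib

theorem isIso_of_isIso_pullback {X Y : Scheme.{u}} (f : X ⟶ Y) [Flat f] [Surjective f] {M N : Y.Modules}
    (φ : M ⟶ N) [IsIso ((Scheme.Modules.pullback f).map φ)] : IsIso φ := by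
  refine KFlatLib.isIso_of_stalks φ fun y => ?_
  obtain ⟨x, rfl⟩ := f.surjective y
  letI := (f.stalkMap x).hom.toAlgebra
  haveI := FpqcPCLib.ff_stalkMap f x
  let ψ := (DerSch.stalkFunctor Y (f x)).map φ
  have hb : Function.Bijective ((ModuleCat.extendScalars.{u, u, u} (f.stalkMap x).hom).map ψ) := by
    haveI : IsIso ((ModuleCat.extendScalars.{u, u, u} (f.stalkMap x).hom).map ψ) := by
      have h0 : IsIso ((Scheme.Modules.pullback f ⋙ DerSch.stalkFunctor X x).map φ) :=
        inferInstanceAs (IsIso ((DerSch.stalkFunctor X x).map ((Scheme.Modules.pullback f).map φ)))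
      exact (NatIso.isIso_map_iff (KFlatLib.stalkPullIso f x) φ).1 h0
    exact ConcreteCategory.bijective_of_isIso _
  have hl : Function.Bijective (ψ.hom.lTensor (X.presheaf.stalk x)) := hb
  exact (ConcreteCategory.isIso_iff_bijective ψ).2
    ((Module.FaithfullyFlat.lTensor_bijective_iff_bijective (Y.presheaf.stalk (f x)) (X.presheaf.stalk x) ψ.hom).1 hl)

end QCohDescLib
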