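import Groth.Agent.QCohDescLib.Glue
import Groth.Agent.QCohDescLib.Adjoint
import Groth.Agent.QCohDescLib.FF
import Groth.Agent.QCohLib.Push
import Groth.Agent.QCohLib.QCoh
import Groth.Agent.KFlatLib.QCohPull
import Groth.Agent.CohBCLib.LocFreeSec
import Groth.Agent.CohCmpLib.Eps

/-!
# A module on an affine scheme whose pullback to a faithfully flat affine cover is quasi-coherent is quasi-coherent
-/

set_option autoImplicit false
set_option linter.style.haveILetI false
set_option maxHeartbeats 800000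

noncomputable section

universe u

open CategoryTheory CategoryTheory.Limits AlgebraicGeometry TopologicalSpace Opposite TensorProduct
open KFlatLib (pb puSec puSecLE)
open ModEffLib (i₁ i₂)

namespace QCohDescLib

section General

variable {Y W W' : Scheme.{u}} (M : Y.Modules)

/-- Restriction, followed by direct image to the base. -/
def push (q : W ⟶ Y) (g : W' ⟶ W) {r : W' ⟶ Y} (e : g ≫ q = r) :
    (Scheme.Modules.pushforward q).obj (pb q M) ⟶ (Scheme.Modules.pushforward r).obj (pb r M) :=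
  (Scheme.Modules.pushforward q).map (rho M g e) ≫ (Scheme.Modules.pushforwardComp g q).hom.app _ ≫
    (Scheme.Modules.pushforwardCongr e).hom.app _

theorem push_app_top (q : W ⟶ Y) (g : W' ⟶ W) {r : W' ⟶ Y} (e : g ≫ q = r) (x : Γ(pb q M, ⊤)) :
    (push M q g e).app ⊤ x = (rho M g e).app ⊤ x := by
  subst e
  show ((Scheme.Modules.pushforwardCongr rfl).hom.app _).app ⊤ ((rho M g rfl).app ⊤ x) = _
  rw [Scheme.Modules.pushforwardCongr_hom_app_app]
  exact congr($((pb (g ≫ q) M).presheaf.map_id _) ((rho M g rfl).app ⊤ x))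

theorem push_app (q : W ⟶ Y) (g : W' ⟶ W) (U : Y.Opens) (x : Γ(pb q M, q ⁻¹ᵁ U)) :
    (push M q g (r := g ≫ q) rfl).app U x = (rho M g (h' := g ≫ q) rfl).app (q ⁻¹ᵁ U) x := by
  rw [push, Scheme.Modules.Hom.comp_app, Scheme.Modules.Hom.comp_app, Scheme.Modules.pushforwardComp_hom_app_app,
    Scheme.Modules.pushforwardCongr_hom_app_app]
  refine Eq.trans ?_ (congr($((pb (g ≫ q) M).presheaf.map_id _) ((rho M g (h' := g ≫ q) rfl).app (q ⁻¹ᵁ U) x)))
  rfl

theorem unit_push (q : W ⟶ Y) (g : W' ⟶ W) {r : W' ⟶ Y} (e : g ≫ q = r) :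
    (Scheme.Modules.pullbackPushforwardAdjunction q).unit.app M ≫ push M q g e =
      (Scheme.Modules.pullbackPushforwardAdjunction r).unit.app M := by
  subst e
  refine Scheme.Modules.hom_ext _ _ fun U => AddCommGrpCat.ext fun m => ?_
  refine Eq.trans ?_ (puSecLE_rfl M (h := g ≫ q) m)
  refine Eq.trans ?_ (rho_puSec M g (h' := g ≫ q) rfl m le_rfl)
  exact push_app M q g U (puSec q m)

/-- The difference of two restrictions. -/
def dd (q : W ⟶ Y) (g₁ g₂ : W' ⟶ W) {r : W' ⟶ Y} (e₁ : g₁ ≫ q = r) (e₂ : g₂ ≫ q = r) :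
    (Scheme.Modules.pushforward q).obj (pb q M) ⟶ (Scheme.Modules.pushforward r).obj (pb r M) :=
  push M q g₁ e₁ - push M q g₂ e₂

theorem unit_dd (q : W ⟶ Y) (g₁ g₂ : W' ⟶ W) {r : W' ⟶ Y} (e₁ : g₁ ≫ q = r) (e₂ : g₂ ≫ q = r) :
    (Scheme.Modules.pullbackPushforwardAdjunction q).unit.app M ≫ dd M q g₁ g₂ e₁ e₂ = 0 := by
  rw [dd, Preadditive.comp_sub, unit_push M q g₁ e₁, unit_push M q g₂ e₂, sub_self]

theorem isQCoh_kernel_dd (q : W ⟶ Y) (g₁ g₂ : W' ⟶ W) {r : W' ⟶ Y} (e₁ : g₁ ≫ q = r) (e₂ : g₂ ≫ q = r)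
    [QuasiCompact q] [QuasiSeparated q] [QuasiCompact r] [QuasiSeparated r] [Coh.IsQCoh (pb q M)] :
    Coh.IsQCoh (kernel (dd M q g₁ g₂ e₁ e₂)) := by
  haveI : Coh.IsQCoh (pb r M) := by
    haveI := KFlatLib.isQCoh_pullback g₁ (pb q M)
    exact QCohLib.isQCoh_of_iso (compIso M g₁ e₁)
  haveI := QCohLib.isQCoh_pushforward q (pb q M)
  haveI := QCohLib.isQCoh_pushforward r (pb r M)
  exact QCohLib.isQCoh_kernel _

theorem dd_eq_zero_iff (q : W ⟶ Y) (g₁ g₂ : W' ⟶ W) {r : W' ⟶ Y} (e₁ : g₁ ≫ q = r) (e₂ : g₂ ≫ q = r)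
    (x : Γ(pb q M, ⊤)) :
    (dd M q g₁ g₂ e₁ e₂).app ⊤ x = 0 ↔ (rho M g₁ e₁).app ⊤ x = (rho M g₂ e₂).app ⊤ x := by
  rw [← push_app_top M q g₁ e₁ x, ← push_app_top M q g₂ e₂ x, dd, Scheme.Modules.Hom.sub_app]
  exact sub_eq_zero

theorem rho_eq_iff_exists_lift (q : W ⟶ Y) (g₁ g₂ : W' ⟶ W) {r : W' ⟶ Y} (e₁ : g₁ ≫ q = r) (e₂ : g₂ ≫ q = r)
    (x : Γ(pb q M, ⊤)) :
    (rho M g₁ e₁).app ⊤ x = (rho M g₂ e₂).app ⊤ x ↔
      ∃ k : Γ(kernel (dd M q g₁ g₂ e₁ e₂), ⊤), (kernel.ι (dd M q g₁ g₂ e₁ e₂)).app ⊤ k = x := by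
  refine ⟨fun h => CohCmpLib.exists_lift_kernel (dd M q g₁ g₂ e₁ e₂) (V := ⊤) (show Γ((Scheme.Modules.pushforward q).obj (pb q M), ⊤) from x) ((dd_eq_zero_iff M q g₁ g₂ e₁ e₂ x).2 h), ?_⟩
  rintro ⟨k, rfl⟩
  exact (dd_eq_zero_iff M q g₁ g₂ e₁ e₂ _).1 (congr($(congrArg (fun φ => Scheme.Modules.Hom.app φ ⊤)
    (kernel.condition (dd M q g₁ g₂ e₁ e₂))) k))

theorem isQCoh_of_kernel (q : W ⟶ Y) [Flat q] [Surjective q] {N : Y.Modules}
    (δ : (Scheme.Modules.pushforward q).obj (pb q M) ⟶ N)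
    (hδ : (Scheme.Modules.pullbackPushforwardAdjunction q).unit.app M ≫ δ = 0) [Coh.IsQCoh (kernel δ)]
    [IsIso (((Scheme.Modules.pullbackPushforwardAdjunction q).homEquiv _ _).symm (kernel.ι δ))] : Coh.IsQCoh M := by
  let adj := Scheme.Modules.pullbackPushforwardAdjunction q
  let θ : M ⟶ kernel δ := kernel.lift _ (adj.unit.app M) hδ
  have hid : (Scheme.Modules.pullback q).map θ ≫ (adj.homEquiv _ _).symm (kernel.ι δ) = 𝟙 _ := by
    rw [← Adjunction.homEquiv_naturality_left_symm, kernel.lift_ι]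
    rw [Adjunction.homEquiv_counit]
    exact adj.left_triangle_components M
  haveI : IsIso ((Scheme.Modules.pullback q).map θ) := by
    haveI : IsIso ((Scheme.Modules.pullback q).map θ ≫ (adj.homEquiv _ _).symm (kernel.ι δ)) := by rw [hid]; infer_instance
    exact IsIso.of_isIso_comp_right _ ((adj.homEquiv _ _).symm (kernel.ι δ))
  haveI := isIso_of_isIso_pullback q θ
  exact QCohLib.isQCoh_of_iso (asIso θ).symm

end General

variable (A B : Type u) [CommRing A] [CommRing B] [Algebra A B] (M : (Spec (CommRingCat.of A)).Modules)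
  [Coh.IsQCoh (pb (qmap A B) M)]


section Pair

variable {T : Type u} [CommRing T] [Algebra A T] (i j : B →+* T) (hi : i.comp (algebraMap A B) = algebraMap A T)
  (hj : j.comp (algebraMap A B) = algebraMap A T)

/-- The difference of the two restrictions. -/
def diff : (Scheme.Modules.pushforward (qmap A B)).obj (pb (qmap A B) M) ⟶
    (Scheme.Modules.pushforward (qmap A T)).obj (pb (qmap A T) M) :=
  dd M (qmap A B) (sp i) (sp j) (sp_comp A i hi) (sp_comp A j hj)

theorem isQCoh_kernel_diff : Coh.IsQCoh (kernel (diff A B M i j hi hj)) :=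
  isQCoh_kernel_dd M (qmap A B) _ _ _ _

theorem res_eq_iff_exists_lift (x : Sec M (qmap A B)) :
    res M i (sp_comp A i hi) x = res M j (sp_comp A j hj) x ↔
      ∃ k : Γ(kernel (diff A B M i j hi hj), ⊤), (kernel.ι (diff A B M i j hi hj)).app ⊤ k = x := by
  rw [res_apply, res_apply]
  exact rho_eq_iff_exists_lift M (qmap A B) (sp i) (sp j) (sp_comp A i hi) (sp_comp A j hj) x

theorem bijective_counit_of_descends [Module A (secB (pb (qmap A B) M))]
    [IsScalarTower A B (secB (pb (qmap A B) M))] (N₀ : Submodule A (secB (pb (qmap A B) M)))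
    (hN : ∀ x : Sec M (qmap A B), (show secB (pb (qmap A B) M) from x) ∈ N₀ ↔
      res M i (sp_comp A i hi) x = res M j (sp_comp A j hj) x)
    (hΦ : Function.Bijective ((TensorProduct.lift (Algebra.lsmul A A (secB (pb (qmap A B) M))).toLinearMap) ∘ₗ
      (LinearMap.lTensor B N₀.subtype))) :
    Function.Bijective ((((Scheme.Modules.pullbackPushforwardAdjunction (qmap A B)).homEquiv _ _).symm
      (kernel.ι (diff A B M i j hi hj))).app ⊤) := by
  haveI := isQCoh_kernel_diff A B M i j hi hj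
  refine bijective_adjoint_top A B (pb (qmap A B) M) (kernel (diff A B M i j hi hj))
    (kernel.ι (diff A B M i j hi hj)) N₀ ((kernel.ι (diff A B M i j hi hj)).app ⊤).hom (fun _ => rfl)
    (QCohLib.app_injective_of_mono (kernel.ι (diff A B M i j hi hj)) ⊤) (fun x => ?_) hΦ
  exact (hN x).trans (res_eq_iff_exists_lift A B M i j hi hj x)

end Pair

/-- A module on an affine scheme with quasi-coherent pullback to a faithfully flat affine cover is quasi-coherent. -/
theorem isQCoh_of_pullback_spec [Module.FaithfullyFlat A B] : Coh.IsQCoh M := by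
  haveI : Flat (qmap A B) := by
    rw [show Flat (qmap A B) ↔ (algebraMap A B).Flat from HasRingHomProperty.Spec_iff, RingHom.flat_algebraMap_iff]
    infer_instance
  haveI : Surjective (qmap A B) := ⟨PrimeSpectrum.comap_surjective_of_faithfullyFlat⟩
  haveI := isQCoh_kernel_diff A B M (i₁ (A := A) (B := B)) (i₂ (A := A) (B := B)) (i₁_comp A B) (i₂_comp A B)
  haveI : Coh.IsQCoh (pb (qmap A B) (kernel (diff A B M (i₁ (A := A) (B := B)) (i₂ (A := A) (B := B))
    (i₁_comp A B) (i₂_comp A B)))) := KFlatLib.isQCoh_pullback (qmap A B) _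
  letI : Module A (Sec M (qmap A B)) := Module.compHom _ (algebraMap A B)
  haveI : IsScalarTower A B (Sec M (qmap A B)) := IsScalarTower.of_algebraMap_smul fun _ _ => rfl
  let N₀ := invSub A B M (i₁ (A := A) (B := B)) (i₂ (A := A) (B := B)) (i₁_comp A B) (i₂_comp A B)
  letI : Module A (secB (pb (qmap A B) M)) := inferInstanceAs (Module A (Sec M (qmap A B)))
  haveI : IsScalarTower A B (secB (pb (qmap A B) M)) := inferInstanceAs (IsScalarTower A B (Sec M (qmap A B)))
  have hb := bijective_counit_of_descends A B M (i₁ (A := A) (B := B)) (i₂ (A := A) (B := B)) (i₁_comp A B)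
    (i₂_comp A B) N₀ (fun _ => Iff.rfl) (bijective_invariants A B M N₀ fun _ => Iff.rfl)
  haveI := CohBCLib.isIso_of_bijective_top _ hb
  exact isQCoh_of_kernel M (qmap A B) (diff A B M (i₁ (A := A) (B := B)) (i₂ (A := A) (B := B)) (i₁_comp A B)
    (i₂_comp A B)) (unit_dd M (qmap A B) _ _ (sp_comp A (i₁ (A := A) (B := B)) (i₁_comp A B))
      (sp_comp A (i₂ (A := A) (B := B)) (i₂_comp A B)))

end QCohDescLib
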