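import Groth.Agent.ModEffLib.Cocycle

/-!
# Descent from identifications of the base changes with common modules
-/

set_option autoImplicit false
set_option linter.style.haveILetI false
set_option maxHeartbeats 1000000

noncomputable section

universe u

open CategoryTheory TensorProduct
open ModEffLib (i₁ i₂ p₁ p₂ p₃ g₁₂ g₁₃ g₂₃)
open Groth.Agent.WittDescLib (et et_induction et_eq_smul)

namespace QCohDescLib

variable {A B : Type u} [CommRing A] [CommRing B] [Algebra A B] (P : ModuleCat.{u} B)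

/-- Semilinearity along a map of rings, stated for arbitrary rings. -/
def SemiMap {S T : Type u} [CommRing S] [CommRing T] (g : S →+* T) {Q : ModuleCat.{u} S} {R : ModuleCat.{u} T}
    (a : Q →+ R) : Prop :=
  ∀ (w : S) (z : Q), a (w • z) = g w • a z

/-- An identification of an extension of scalars, stated for arbitrary rings. -/
def ExtBy {T : Type u} [CommRing T] (φ : B →+* T) {Q : ModuleCat.{u} T}
    (e : (ModuleCat.extendScalars φ).obj P ≅ Q) (r : P → Q) : Prop :=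
  ∀ x, e.hom (et φ P 1 x) = r x

theorem iso_et {T : Type u} [CommRing T] (φ : B →+* T) {Q : ModuleCat.{u} T}
    (e : (ModuleCat.extendScalars φ).obj P ≅ Q) (r : P →+ Q) (he : ∀ x, e.hom (et φ P 1 x) = r x) (t : T) (x : P) :
    e.hom (et φ P t x) = t • r x := by
  rw [et_eq_smul φ P t, map_smul, he]

theorem kap_transfer [Module A P] [IsScalarTower A B P] {T : Type u} [CommRing T] {Q : @ModuleCat.{u} (B ⊗[A] B) CommRing.toRing} {R : ModuleCat.{u} T}
    (e₁ : (ModuleCat.extendScalars (i₁ (A := A) (B := B))).obj P ≅ Q)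
    (e₂ : (ModuleCat.extendScalars (i₂ (A := A) (B := B))).obj P ≅ Q)
    (r₁ r₂ : P →+ Q) (he₁ : ExtBy P _ e₁ r₁) (he₂ : ExtBy P _ e₂ r₂)
    (g : B ⊗[A] B →+* T) (p q : B →+* T) (hq : g.comp i₂ = q)
    (rg : Q →+ R) (hrg : SemiMap g rg)
    (f : (ModuleCat.extendScalars p).obj P ≅ R) (f' : (ModuleCat.extendScalars q).obj P ≅ R)
    (hf : ExtBy P p f fun x => rg (r₁ x)) (hf' : ExtBy P q f' fun x => rg (r₂ x))
    (t : T) (s : B ⊗[A] B) (x : P) :
    (f.hom ≫ f'.inv).hom (et p P (t * g s) x) =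
      ModEffLib.kap P g t q hq ((e₁.hom ≫ e₂.inv).hom (et (i₁ (A := A) (B := B)) P s x)) := by
  have key : ∀ z, f'.hom (ModEffLib.kap P g t q hq z) = t • rg (e₂.hom z) := fun z => by
    induction z using et_induction with
    | h0 => erw [map_zero, map_zero, map_zero, smul_zero]
    | hadd a b ha hb => simp only [map_add, smul_add, ha, hb]
    | ht w n =>
      rw [ModEffLib.kap_et, iso_et P q f' (rg.comp r₂) hf', iso_et P _ e₂ r₂ he₂, hrg, ← mul_smul]
      rfl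
  refine (ConcreteCategory.bijective_of_isIso f'.hom).1 ?_
  rw [key, ModuleCat.comp_apply, ModuleCat.comp_apply]
  erw [Iso.inv_hom_id_apply, Iso.inv_hom_id_apply]
  rw [iso_et P p f (rg.comp r₁) hf, iso_et P _ e₁ r₁ he₁, hrg, ← mul_smul]
  rfl

/-- If the three base changes to the cube are identified compatibly, the elements with equal images in the square
descend the module. -/
theorem bijective_of_identified [Module A P] [IsScalarTower A B P] [Module.FaithfullyFlat A B]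
    (Q : @ModuleCat.{u} (B ⊗[A] B) CommRing.toRing) (R : @ModuleCat.{u} (B ⊗[A] (B ⊗[A] B)) CommRing.toRing)
    (e₁ : (ModuleCat.extendScalars (i₁ (A := A) (B := B))).obj P ≅ Q)
    (e₂ : (ModuleCat.extendScalars (i₂ (A := A) (B := B))).obj P ≅ Q)
    (f₁ : (ModuleCat.extendScalars (p₁ (A := A) (B := B))).obj P ≅ R)
    (f₂ : (ModuleCat.extendScalars (p₂ (A := A) (B := B))).obj P ≅ R)
    (f₃ : (ModuleCat.extendScalars (p₃ (A := A) (B := B))).obj P ≅ R)
    (r₁ r₂ : P →+ Q) (he₁ : ExtBy P _ e₁ r₁) (he₂ : ExtBy P _ e₂ r₂)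
    (a b c : Q →+ R) (ha : SemiMap (g₁₂ (A := A) (B := B)) a) (hb : SemiMap (g₂₃ (A := A) (B := B)) b)
    (hc : SemiMap (g₁₃ (A := A) (B := B)) c)
    (h₁ : ExtBy P _ f₁ fun x => a (r₁ x)) (h₂ : ExtBy P _ f₂ fun x => a (r₂ x))
    (h₂' : ExtBy P _ f₂ fun x => b (r₁ x)) (h₃ : ExtBy P _ f₃ fun x => b (r₂ x))
    (h₁' : ExtBy P _ f₁ fun x => c (r₁ x)) (h₃' : ExtBy P _ f₃ fun x => c (r₂ x))
    (N : Submodule A P) (hN : ∀ x, x ∈ N ↔ r₁ x = r₂ x) :
    Function.Bijective ((TensorProduct.lift (Algebra.lsmul A A P).toLinearMap) ∘ₗ (LinearMap.lTensor B N.subtype)) := by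
  have hd : Function.Bijective (e₁.hom ≫ e₂.inv).hom := ConcreteCategory.bijective_of_isIso _
  have hcomp : (f₁.hom ≫ f₂.inv) ≫ (f₂.hom ≫ f₃.inv) = f₁.hom ≫ f₃.inv := by simp
  have hcoc := ModEffLib.cocycle P (e₁.hom ≫ e₂.inv) _ _ _ hcomp
    (kap_transfer P e₁ e₂ r₁ r₂ he₁ he₂ g₁₂ _ _ ModEffLib.g₁₂_i₂ a ha f₁ f₂ h₁ h₂)
    (kap_transfer P e₁ e₂ r₁ r₂ he₁ he₂ g₂₃ _ _ rfl b hb f₂ f₃ h₂' h₃)
    (kap_transfer P e₁ e₂ r₁ r₂ he₁ he₂ g₁₃ _ _ ModEffLib.g₁₃_i₂ c hc f₁ f₃ h₁' h₃')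
  have hN' : N = ModEffLib.inv₀ P (e₁.hom ≫ e₂.inv) := by
    ext x
    rw [hN]
    show _ ↔ ModEffLib.phi P (e₁.hom ≫ e₂.inv) (x ⊗ₜ[A] (1 : B)) = (1 : B) ⊗ₜ[A] x
    have h1 : (1 : B) ⊗ₜ[A] x = ModEffLib.eps P (et i₂ P ((1 : B) ⊗ₜ[A] (1 : B)) x) := by
      rw [ModEffLib.eps_et, one_smul]
    rw [ModEffLib.phi_apply, ModEffLib.theta_tmul, h1, (ModEffLib.eps_bijective P).1.eq_iff,
      ← (ConcreteCategory.bijective_of_isIso e₂.hom).1.eq_iff, ModuleCat.comp_apply]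
    erw [Iso.inv_hom_id_apply]
    rw [← Algebra.TensorProduct.one_def]
    erw [he₁ x, he₂ x]
  subst hN'
  exact ModEffLib.bijective_inv₀ P (e₁.hom ≫ e₂.inv) hd hcoc

end QCohDescLib
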