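import Groth.Agent.QCohDescLib.Rho
import Groth.Agent.FpqcPCLib.Main
import Groth.Agent.SeesawLib.OpenBC
import Groth.Agent.AVThetaLib.GlueHom

/-!
# Pulling sections between pullbacks of a module
-/

set_option autoImplicit false
set_option linter.style.haveILetI false
set_option backward.isDefEq.respectTransparency false
set_option backward.isDefEq.respectTransparency.types false

noncomputable section

universe u v

open CategoryTheory CategoryTheory.Limits AlgebraicGeometry TopologicalSpace Opposite TensorProduct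
open KFlatLib (pb puSec puSecLE)

namespace QCohDescLib

variable {S W W' W'' : Scheme.{u}} (M : S.Modules)

/-- The image of a section under a map of schemes over the base. -/
irreducible_def pullLE (g : W' ⟶ W) {h : W ⟶ S} {h' : W' ⟶ S} (e : g ≫ h = h') {O : W.Opens} {O' : W'.Opens}
    (le : O' ≤ g ⁻¹ᵁ O) : Γ(pb h M, O) →+ Γ(pb h' M, O') :=
  ((pb h' M).presheaf.map (homOfLE le).op).hom.comp ((rho M g e).app O).hom

theorem pullLE_apply (g : W' ⟶ W) {h : W ⟶ S} {h' : W' ⟶ S} (e : g ≫ h = h') {O : W.Opens} {O' : W'.Opens}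
    (le : O' ≤ g ⁻¹ᵁ O) (x : Γ(pb h M, O)) :
    pullLE M g e le x = (pb h' M).presheaf.map (homOfLE le).op ((rho M g e).app O x) := by
  rw [pullLE_def]
  rfl

theorem pullLE_eq_compIso (g : W' ⟶ W) {h : W ⟶ S} {h' : W' ⟶ S} (e : g ≫ h = h') {O : W.Opens} {O' : W'.Opens}
    (le : O' ≤ g ⁻¹ᵁ O) (x : Γ(pb h M, O)) :
    pullLE M g e le x = (compIso M g e).hom.app O' (puSecLE g (pb h M) le x) := by
  rw [pullLE_apply, rho_app, KFlatLib.puSecLE_apply, QCohLib.app_map]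

theorem pullLE_map (g : W' ⟶ W) {h : W ⟶ S} {h' : W' ⟶ S} (e : g ≫ h = h') {O₀ O : W.Opens} {O' : W'.Opens}
    (hO : O ≤ O₀) (le : O' ≤ g ⁻¹ᵁ O) (le₀ : O' ≤ g ⁻¹ᵁ O₀) (x : Γ(pb h M, O₀)) :
    pullLE M g e le ((pb h M).presheaf.map (homOfLE hO).op x) = pullLE M g e le₀ x := by
  rw [pullLE_apply, pullLE_apply, QCohLib.app_map (rho M g e) (homOfLE hO) x]
  show (pb h' M).presheaf.map _ ((pb h' M).presheaf.map _ _) = _
  rw [← ConcreteCategory.comp_apply, ← Functor.map_comp]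
  rfl

theorem map_pullLE (g : W' ⟶ W) {h : W ⟶ S} {h' : W' ⟶ S} (e : g ≫ h = h') {O : W.Opens} {O' O'' : W'.Opens}
    (le : O' ≤ g ⁻¹ᵁ O) (hO : O'' ≤ O') (le' : O'' ≤ g ⁻¹ᵁ O) (x : Γ(pb h M, O)) :
    (pb h' M).presheaf.map (homOfLE hO).op (pullLE M g e le x) = pullLE M g e le' x := by
  rw [pullLE_apply, pullLE_apply, ← ConcreteCategory.comp_apply, ← Functor.map_comp]
  rfl

theorem pullLE_puSecLE (g : W' ⟶ W) {h : W ⟶ S} {h' : W' ⟶ S} (e : g ≫ h = h') {U : S.Opens} {O : W.Opens}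
    {O' : W'.Opens} (hO : O ≤ h ⁻¹ᵁ U) (le : O' ≤ g ⁻¹ᵁ O) (hO' : O' ≤ h' ⁻¹ᵁ U) (m : Γ(M, U)) :
    pullLE M g e le (puSecLE h M hO m) = puSecLE h' M hO' m := by
  have le₁ : O' ≤ g ⁻¹ᵁ (h ⁻¹ᵁ U) := le.trans (g.preimage_mono hO)
  rw [KFlatLib.puSecLE_apply, pullLE_map M g e hO le le₁, pullLE_apply,
    rho_puSec M g e m (by subst e; exact le_refl _)]
  show (pb h' M).presheaf.map _ ((pb h' M).presheaf.map _ _) = (pb h' M).presheaf.map _ _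
  rw [← ConcreteCategory.comp_apply, ← Functor.map_comp]
  rfl

theorem pullLE_pullLE (g : W' ⟶ W) (g' : W'' ⟶ W') {h : W ⟶ S} {h' : W' ⟶ S} {h'' : W'' ⟶ S}
    (e : g ≫ h = h') (e' : g' ≫ h' = h'') (e'' : (g' ≫ g) ≫ h = h'') {O : W.Opens} {O' : W'.Opens} {O'' : W''.Opens}
    (le : O' ≤ g ⁻¹ᵁ O) (le' : O'' ≤ g' ⁻¹ᵁ O') (le'' : O'' ≤ (g' ≫ g) ⁻¹ᵁ O) (x : Γ(pb h M, O)) :
    pullLE M g' e' le' (pullLE M g e le x) = pullLE M (g' ≫ g) e'' le'' x := by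
  rw [pullLE_apply M g e le, pullLE_map M g' e' le le' (le'.trans (g'.preimage_mono le)), pullLE_apply, pullLE_apply,
    rho_comp M g g' e e' e'' O x]
  rfl

theorem pullLE_congr {g g₁ : W' ⟶ W} (hg : g = g₁) {h : W ⟶ S} {h' : W' ⟶ S} (e : g ≫ h = h') (e₁ : g₁ ≫ h = h')
    {O : W.Opens} {O' : W'.Opens} (le : O' ≤ g ⁻¹ᵁ O) (le₁ : O' ≤ g₁ ⁻¹ᵁ O) (x : Γ(pb h M, O)) :
    pullLE M g e le x = pullLE M g₁ e₁ le₁ x := by
  subst hg
  rfl

/-- Comparison of two ways of pulling in two steps. -/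
theorem pullLE_pullLE_eq {W₁ W₂ : Scheme.{u}} (a₁ : W' ⟶ W₁) (b₁ : W₁ ⟶ W) (a₂ : W' ⟶ W₂) (b₂ : W₂ ⟶ W)
    (hg : a₁ ≫ b₁ = a₂ ≫ b₂) {h : W ⟶ S} {h' : W' ⟶ S} {h₁ : W₁ ⟶ S} {h₂ : W₂ ⟶ S} (f₁ : b₁ ≫ h = h₁)
    (f₂ : b₂ ≫ h = h₂) (k₁ : a₁ ≫ h₁ = h') (k₂ : a₂ ≫ h₂ = h') {O : W.Opens} {O₁ : W₁.Opens} {O₂ : W₂.Opens}
    {O' : W'.Opens} (l₁ : O₁ ≤ b₁ ⁻¹ᵁ O) (l₂ : O₂ ≤ b₂ ⁻¹ᵁ O) (l₁' : O' ≤ a₁ ⁻¹ᵁ O₁) (l₂' : O' ≤ a₂ ⁻¹ᵁ O₂)
    (x : Γ(pb h M, O)) :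
    pullLE M a₁ k₁ l₁' (pullLE M b₁ f₁ l₁ x) = pullLE M a₂ k₂ l₂' (pullLE M b₂ f₂ l₂ x) := by
  have e₁ : (a₁ ≫ b₁) ≫ h = h' := by rw [Category.assoc, f₁, k₁]
  have e₂ : (a₂ ≫ b₂) ≫ h = h' := by rw [Category.assoc, f₂, k₂]
  rw [pullLE_pullLE M b₁ a₁ f₁ k₁ e₁ l₁ l₁' (l₁'.trans (a₁.preimage_mono l₁)),
    pullLE_pullLE M b₂ a₂ f₂ k₂ e₂ l₂ l₂' (l₂'.trans (a₂.preimage_mono l₂))]
  exact pullLE_congr M hg _ _ _ _ x

theorem pullLE_smul (g : W' ⟶ W) {h : W ⟶ S} {h' : W' ⟶ S} (e : g ≫ h = h') {O : W.Opens} {O' : W'.Opens}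
    (le : O' ≤ g ⁻¹ᵁ O) (c : Γ(W, O)) (x : Γ(pb h M, O)) :
    pullLE M g e le (c • x) = g.appLE O O' le c • pullLE M g e le x := by
  rw [pullLE_eq_compIso, pullLE_eq_compIso, KFlatLib.puSecLE_smul, QCohLib.app_smul]

theorem pullLE_natural {N : S.Modules} (φ : M ⟶ N) (g : W' ⟶ W) {h : W ⟶ S} {h' : W' ⟶ S} (e : g ≫ h = h')
    {O : W.Opens} {O' : W'.Opens} (le : O' ≤ g ⁻¹ᵁ O) (x : Γ(pb h M, O)) :
    ((Scheme.Modules.pullback h').map φ).app O' (pullLE M g e le x) =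
      pullLE N g e le (((Scheme.Modules.pullback h).map φ).app O x) := by
  rw [pullLE_eq_compIso, pullLE_eq_compIso, ← CohCmpLib.puSecLE_natural g ((Scheme.Modules.pullback h).map φ)]
  subst e
  exact congr($(congrArg (fun ψ => Scheme.Modules.Hom.app ψ O')
    ((Scheme.Modules.pullbackComp g h ≪≫ Scheme.Modules.pullbackCongr (rfl : g ≫ h = g ≫ h)).hom.naturality φ).symm)
      (puSecLE g (pb h M) le x))

/-- Sections of a pullback are determined by their pullbacks along a jointly surjective flat family. -/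
theorem pullLE_injective {κ : Type v} {Z : κ → Scheme.{u}} (g : ∀ k, Z k ⟶ W) [∀ k, Flat (g k)] {h : W ⟶ S}
    {hZ : ∀ k, Z k ⟶ S} (e : ∀ k, g k ≫ h = hZ k) {O : W.Opens} (O' : ∀ k, (Z k).Opens)
    (le : ∀ k, O' k ≤ g k ⁻¹ᵁ O) (hcov : ∀ x ∈ O, ∃ k, ∃ z ∈ O' k, g k z = x) (s t : Γ(pb h M, O))
    (hst : ∀ k, pullLE M (g k) (e k) (le k) s = pullLE M (g k) (e k) (le k) t) : s = t := by
  refine TopCat.Presheaf.section_ext ((QCohLib.toAbF W).obj (pb h M) : TopCat.Sheaf AddCommGrpCat _) O s t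
    fun x hx => ?_
  obtain ⟨k, z, hz, rfl⟩ := hcov x hx
  have h1 : puSecLE (g k) (pb h M) (le k) s = puSecLE (g k) (pb h M) (le k) t := by
    have hk := hst k
    rw [pullLE_eq_compIso, pullLE_eq_compIso] at hk
    exact (ConcreteCategory.bijective_of_isIso ((compIso M (g k) (e k)).hom.app (O' k))).1 hk
  have h2 := congrArg ((pb (g k) (pb h M)).presheaf.germ (O' k) z hz) h1
  rw [KFlatLib.gm_puSecLE, KFlatLib.gm_puSecLE, ← KFlatLib.stalkPullInv_germ, ← KFlatLib.stalkPullInv_germ] at h2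
  letI := ((g k).stalkMap z).hom.toAlgebra
  haveI := FpqcPCLib.ff_stalkMap (g k) z
  exact Module.FaithfullyFlat.tensorProduct_mk_injective (A := W.presheaf.stalk (g k z))
    (B := (Z k).presheaf.stalk z) ((pb h M).presheaf.stalk (g k z))
    ((ConcreteCategory.bijective_of_isIso ((KFlatLib.stalkPullIso (g k) z).inv.app (pb h M))).1 h2)

/-- Gluing of sections along open immersions. -/
theorem exists_glue_openImmersion {κ : Type v} {Z : κ → Scheme.{u}} (j : ∀ k, Z k ⟶ W) [∀ k, IsOpenImmersion (j k)]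
    (hcov : ∀ x : W, ∃ k z, j k z = x) {h : W ⟶ S} {hZ : ∀ k, Z k ⟶ S} (e : ∀ k, j k ≫ h = hZ k)
    (s : ∀ k, Γ(pb (hZ k) M, ⊤))
    (hs : ∀ k l (Y : Scheme.{u}) (a : Y ⟶ Z k) (b : Y ⟶ Z l) (hY : Y ⟶ S) (ea : a ≫ hZ k = hY) (eb : b ≫ hZ l = hY),
      a ≫ j k = b ≫ j l → pullLE M a ea (O' := ⊤) le_rfl (s k) = pullLE M b eb (O' := ⊤) le_rfl (s l)) :
    ∃ t : Γ(pb h M, ⊤), ∀ k, pullLE M (j k) (e k) (O' := ⊤) le_rfl t = s k := by
  have hb : ∀ k, ∀ y : Γ(pb (hZ k) M, ⊤), ∃ x : Γ(pb h M, (j k).opensRange),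
      pullLE M (j k) (e k) (le_of_eq (j k).preimage_opensRange.symm) x = y := fun k y => by
    obtain ⟨x, hx⟩ := (SeesawLib.puSecLE_bijective (j k) (pb h M) (le_of_eq (j k).preimage_opensRange.symm)
      (j k).image_top_eq_opensRange).2 ((compIso M (j k) (e k)).inv.app ⊤ y)
    refine ⟨x, ?_⟩
    rw [pullLE_eq_compIso, hx]
    exact congr($(congrArg (fun φ => Scheme.Modules.Hom.app φ ⊤) (compIso M (j k) (e k)).inv_hom_id) y)
  choose a ha using fun k => hb k (s k)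
  have hagree : ∀ k l, AmpleLib.res (pb h M) (inf_le_left : (j k).opensRange ⊓ (j l).opensRange ≤ _) (a k) =
      AmpleLib.res (pb h M) (inf_le_right : (j k).opensRange ⊓ (j l).opensRange ≤ _) (a l) := fun k l => by
    let O := (j k).opensRange ⊓ (j l).opensRange
    refine pullLE_injective M (fun _ : PUnit.{1} => O.ι) (fun _ => rfl) (fun _ => ⊤)
      (fun _ => le_of_eq O.ι_preimage_self.symm) (fun x hx => ⟨PUnit.unit, ⟨x, hx⟩, trivial, rfl⟩) _ _ fun _ => ?_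
    let u₁ : (O : Scheme.{u}) ⟶ Z k := IsOpenImmersion.lift (j k) O.ι (by
      rintro _ ⟨x, rfl⟩; exact (x.2 : _ ∧ _).1)
    let u₂ : (O : Scheme.{u}) ⟶ Z l := IsOpenImmersion.lift (j l) O.ι (by
      rintro _ ⟨x, rfl⟩; exact (x.2 : _ ∧ _).2)
    have hu₁ : u₁ ≫ j k = O.ι := IsOpenImmersion.lift_fac _ _ _
    have hu₂ : u₂ ≫ j l = O.ι := IsOpenImmersion.lift_fac _ _ _
    have key := hs k l _ u₁ u₂ (O.ι ≫ h) (by rw [← e k, ← Category.assoc, hu₁]) (by rw [← e l, ← Category.assoc, hu₂])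
      (hu₁.trans hu₂.symm)
    rw [← ha k, ← ha l] at key
    show pullLE M O.ι rfl _ ((pb h M).presheaf.map _ (a k)) = pullLE M O.ι rfl _ ((pb h M).presheaf.map _ (a l))
    rw [pullLE_map M O.ι rfl inf_le_left _ (show (⊤ : (O : Scheme.{u}).Opens) ≤ O.ι ⁻¹ᵁ (j k).opensRange from fun x _ => (x.2 : _ ∧ _).1),
      pullLE_map M O.ι rfl inf_le_right _ (show (⊤ : (O : Scheme.{u}).Opens) ≤ O.ι ⁻¹ᵁ (j l).opensRange from fun x _ => (x.2 : _ ∧ _).2)]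
    rw [pullLE_pullLE M (j k) u₁ (e k) _ (by rw [hu₁]) _ _ (fun x _ => by
        rw [hu₁]; exact (x.2 : _ ∧ _).1),
      pullLE_pullLE M (j l) u₂ (e l) _ (by rw [hu₂]) _ _ (fun x _ => by
        rw [hu₂]; exact (x.2 : _ ∧ _).2)] at key
    exact (pullLE_congr M hu₁.symm rfl _ _ _ (a k)).trans (key.trans (pullLE_congr M hu₂ _ rfl _ _ (a l)))
  obtain ⟨t, ht⟩ := AVThetaLib.exists_glue' (N := pb h M) (V := ⊤) (fun k => (j k).opensRange) (fun _ => le_top)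
    (fun x _ => by obtain ⟨k, z, rfl⟩ := hcov x; exact ⟨k, z, rfl⟩) a hagree
  refine ⟨t, fun k => ?_⟩
  rw [← ha k, ← ht k]
  exact (pullLE_map M (j k) (e k) le_top _ le_rfl t).symm

end QCohDescLib
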