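import Groth.Agent.QCohDescLib.Glue
import Groth.Agent.QCohDescLib.Pull

/-!
# Sections of quasi-coherent modules descend along faithfully flat maps of affine schemes
-/

set_option autoImplicit false
set_option linter.style.haveILetI false
set_option maxHeartbeats 800000

noncomputable section

universe u

open CategoryTheory CategoryTheory.Limits AlgebraicGeometry TopologicalSpace Opposite TensorProduct
open KFlatLib (pb puSec puSecLE)
open ModEffLib (i₁ i₂)
open Groth.Agent.WittDescLib (et et_induction)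

namespace QCohDescLib

theorem pullLE_eq_res {Y : Scheme.{u}} (M : Y.Modules) {T T' : Type u} [CommRing T] [CommRing T'] (φ : T →+* T')
    {h : Spec (CommRingCat.of T) ⟶ Y} {h' : Spec (CommRingCat.of T') ⟶ Y} (e : sp φ ≫ h = h')
    (le : (⊤ : (Spec (CommRingCat.of T')).Opens) ≤ sp φ ⁻¹ᵁ ⊤) (x : Γ(pb h M, ⊤)) :
    pullLE M (sp φ) e le x = res M φ e x := by
  rw [pullLE_apply, res_apply]
  exact congr($((pb h' M).presheaf.map_id _) ((rho M (sp φ) e).app ⊤ x))

/-- Comparison of pullbacks through an intermediate base. -/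
theorem compIso_pullLE {S Y W W' : Scheme.{u}} (N : S.Modules) (ι : Y ⟶ S) (g : W' ⟶ W) {h : W ⟶ Y} {h' : W' ⟶ Y}
    (e : g ≫ h = h') (e₂ : g ≫ h ≫ ι = h' ≫ ι) {O : W.Opens} {O' : W'.Opens} (le : O' ≤ g ⁻¹ᵁ O)
    (x : Γ(pb h (pb ι N), O)) :
    (compIso N h' (h := ι) rfl).hom.app O' (pullLE (pb ι N) g e le x) =
      pullLE N g e₂ le ((compIso N h (h := ι) rfl).hom.app O x) := by
  have key : rho (pb ι N) g e ≫ (Scheme.Modules.pushforward g).map (compIso N h' (h := ι) rfl).hom =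
      (compIso N h (h := ι) rfl).hom ≫ rho N g e₂ := by
    apply ((Scheme.Modules.pullbackPushforwardAdjunction h).homEquiv _ _).injective
    refine hom_ext_puSec N fun U m => ?_
    have hU : g ⁻¹ᵁ (h ⁻¹ᵁ (ι ⁻¹ᵁ U)) ≤ h' ⁻¹ᵁ (ι ⁻¹ᵁ U) := by subst e; exact le_refl _
    show (compIso N h' (h := ι) rfl).hom.app (g ⁻¹ᵁ (h ⁻¹ᵁ (ι ⁻¹ᵁ U)))
        ((rho (pb ι N) g e).app (h ⁻¹ᵁ (ι ⁻¹ᵁ U)) (puSec h (puSec ι m))) =
      (rho N g e₂).app (h ⁻¹ᵁ (ι ⁻¹ᵁ U)) ((compIso N h (h := ι) rfl).hom.app _ (puSec h (puSec ι m)))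
    have h1 : (rho N g e₂).app ((h ≫ ι) ⁻¹ᵁ U) (puSec (h ≫ ι) m) = puSecLE (h' ≫ ι) N hU m :=
      rho_puSec N g e₂ m hU
    rw [rho_puSec (pb ι N) g e (puSec ι m) hU, compIso_puSec N h rfl m le_rfl]
    refine Eq.trans ?_ (h1.symm.trans (congrArg (fun z => (rho N g e₂).app (h ⁻¹ᵁ (ι ⁻¹ᵁ U)) z)
      (puSecLE_rfl N (h := h ≫ ι) m).symm))
    rw [← puSecLE_rfl N m (h := ι), ← pullLE_eq_compIso N h' rfl hU]
    exact pullLE_puSecLE N h' rfl le_rfl hU hU m
  rw [pullLE_apply, pullLE_apply, QCohLib.app_map]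
  exact congrArg ((pb (h' ≫ ι) N).presheaf.map (homOfLE le).op)
    congr($(congrArg (fun φ => Scheme.Modules.Hom.app φ O) key) x)

variable (A B : Type u) [CommRing A] [CommRing B] [Algebra A B] [Module.FaithfullyFlat A B]
  (M : (Spec (CommRingCat.of A)).Modules) [Coh.IsQCoh M]

omit [Module.FaithfullyFlat A B] in
theorem sp_algebraMap : sp (algebraMap A B) ≫ qmap A A = qmap A B :=
  sp_comp A (algebraMap A B) (RingHom.ext fun _ => rfl)

/-- Exactness of the Amitsur complex in degree zero, for sections of pullbacks. -/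
theorem exists_res_eq (x : Sec M (qmap A B))
    (hx : res M (i₁ (A := A) (B := B)) (sp_comp A (i₁ (A := A) (B := B)) (i₁_comp A B)) x =
      res M (i₂ (A := A) (B := B)) (sp_comp A (i₂ (A := A) (B := B)) (i₂_comp A B)) x) :
    ∃ l : Sec M (qmap A A), res M (algebraMap A B) (sp_algebraMap A B) l = x := by
  haveI : Coh.IsQCoh (pb (qmap A B) M) := KFlatLib.isQCoh_pullback _ M
  haveI : Coh.IsQCoh (pb (qmap A A) M) := KFlatLib.isQCoh_pullback _ M
  letI : Module A (Sec M (qmap A B)) := Module.compHom _ (algebraMap A B)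
  haveI : IsScalarTower A B (Sec M (qmap A B)) := IsScalarTower.of_algebraMap_smul fun _ _ => rfl
  let N₀ := invSub A B M (i₁ (A := A) (B := B)) (i₂ (A := A) (B := B)) (i₁_comp A B) (i₂_comp A B)
  let ρ := res M (algebraMap A B) (sp_algebraMap A B)
  have hmem : ∀ l, ρ l ∈ N₀ := fun l => by
    show res M _ _ (res M (algebraMap A B) _ l) = res M _ _ (res M (algebraMap A B) _ l)
    have e : sp (algebraMap A (B ⊗[A] B)) ≫ qmap A A = qmap A (B ⊗[A] B) := sp_algebraMap A (B ⊗[A] B)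
    rw [res_res M (algebraMap A B) _ (algebraMap A (B ⊗[A] B)) (i₁_comp A B) _ _ e l,
      res_res M (algebraMap A B) _ (algebraMap A (B ⊗[A] B)) (i₂_comp A B) _ _ e l]
  let g : Sec M (qmap A A) →ₗ[A] N₀ :=
    { toFun := fun l => ⟨ρ l, hmem l⟩
      map_add' := fun l l' => Subtype.ext (map_add ρ l l')
      map_smul' := fun a l => Subtype.ext (res_smul M (algebraMap A B) (sp_algebraMap A B) a l) }
  let Φ := (TensorProduct.lift (Algebra.lsmul A A (Sec M (qmap A B))).toLinearMap) ∘ₗ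
    (LinearMap.lTensor B N₀.subtype)
  have hΦ : Function.Bijective Φ := bijective_invariants A B M N₀ fun _ => Iff.rfl
  have hs : Function.Surjective (g.lTensor B) := by
    have hr : ∀ p, p ∈ LinearMap.range (Φ ∘ₗ g.lTensor B) := fun p => by
      obtain ⟨z, rfl⟩ := (extMap_bijective M (algebraMap A B) (sp_algebraMap A B)).2 p
      induction z using et_induction with
      | h0 => rw [map_zero]; exact zero_mem _
      | hadd a b ha hb => rw [map_add]; exact add_mem ha hb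
      | ht t l => exact ⟨t ⊗ₜ[A] l, (extMap_et M (algebraMap A B) (sp_algebraMap A B) t l).symm⟩
    intro y
    obtain ⟨z, hz⟩ := hr (Φ y)
    exact ⟨z, hΦ.1 hz⟩
  obtain ⟨l, hl⟩ := (Module.FaithfullyFlat.lTensor_surjective_iff_surjective A B g).1 hs ⟨x, hx⟩
  exact ⟨l, congrArg Subtype.val hl⟩

end QCohDescLib
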