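import Groth.Agent.QCohDescLib.Hom

/-!
# Descent data of modules, on sections
-/

set_option autoImplicit false
set_option linter.style.haveILetI false

noncomputable section

universe u v

open CategoryTheory CategoryTheory.Limits AlgebraicGeometry TopologicalSpace Opposite
open KFlatLib (pb puSec puSecLE)

namespace QCohDescLib

variable {ι : Type u} {S : Scheme.{u}} {X : ι → Scheme.{u}} {f : ∀ i, X i ⟶ S}
  (D : Desc.modPF.{u}.DescentData f)

/-- The module of a datum on a member of the family. -/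
def dObj (i : ι) : (X i).Modules := D.obj i

/-- The gluing maps of a datum. -/
def dHom {i j : ι} {Y : Scheme.{u}} (a : Y ⟶ X i) (b : Y ⟶ X j) (h : a ≫ f i = b ≫ f j) :
    pb a (dObj D i) ⟶ pb b (dObj D j) :=
  D.hom (a ≫ f i) a b rfl h.symm

theorem dHom_eq {i j : ι} {Y : Scheme.{u}} (a : Y ⟶ X i) (b : Y ⟶ X j) (q : Y ⟶ S) (ha : a ≫ f i = q)
    (hb : b ≫ f j = q) : dHom D a b (ha.trans hb.symm) = D.hom q a b ha hb := by
  subst ha
  rfl

theorem dHom_self {i : ι} {Y : Scheme.{u}} (a : Y ⟶ X i) : dHom D a a rfl = 𝟙 _ :=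
  D.hom_self _ a rfl

theorem dHom_comp {i j k : ι} {Y : Scheme.{u}} (a : Y ⟶ X i) (b : Y ⟶ X j) (c : Y ⟶ X k)
    (hab : a ≫ f i = b ≫ f j) (hbc : b ≫ f j = c ≫ f k) :
    dHom D a b hab ≫ dHom D b c hbc = dHom D a c (hab.trans hbc) := by
  rw [dHom_eq D b c (a ≫ f i) hab.symm (hab.trans hbc).symm]
  exact D.hom_comp (a ≫ f i) a b c rfl hab.symm (hab.trans hbc).symm

theorem isIso_dHom {i j : ι} {Y : Scheme.{u}} (a : Y ⟶ X i) (b : Y ⟶ X j) (h : a ≫ f i = b ≫ f j) :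
    IsIso (dHom D a b h) :=
  ⟨dHom D b a h.symm, by rw [dHom_comp]; exact dHom_self D a, by rw [dHom_comp]; exact dHom_self D b⟩

theorem dHom_pull {i j : ι} {Y Y' : Scheme.{u}} (g : Y' ⟶ Y) (a : Y ⟶ X i) (b : Y ⟶ X j)
    (h : a ≫ f i = b ≫ f j) (a' : Y' ⟶ X i) (b' : Y' ⟶ X j) (ha' : g ≫ a = a') (hb' : g ≫ b = b')
    (h' : a' ≫ f i = b' ≫ f j) :
    (Scheme.Modules.pullback g).map (dHom D a b h) ≫ (compIso (dObj D j) g hb').hom =
      (compIso (dObj D i) g ha').hom ≫ dHom D a' b' h' := by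
  have e : g ≫ a ≫ f i = a' ≫ f i := by rw [← Category.assoc, ha']
  have key := D.pullHom_hom g (a ≫ f i) (a' ≫ f i) e a b rfl h.symm a' b' ha' hb'
  simp only [Pseudofunctor.LocallyDiscreteOpToCat.pullHom] at key
  rw [mapComp'_hom_app a g a' ha', mapComp'_inv_app b g b' hb'] at key
  rw [← Iso.inv_comp_eq]
  exact key

/-- Transport of a section by the gluing map. -/
irreducible_def tr {i j : ι} {Y : Scheme.{u}} (a : Y ⟶ X i) (b : Y ⟶ X j) (h : a ≫ f i = b ≫ f j) (O : Y.Opens) :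
    Γ(pb a (dObj D i), O) →+ Γ(pb b (dObj D j), O) :=
  ((dHom D a b h).app O).hom

theorem tr_apply {i j : ι} {Y : Scheme.{u}} (a : Y ⟶ X i) (b : Y ⟶ X j) (h : a ≫ f i = b ≫ f j) (O : Y.Opens)
    (x : Γ(pb a (dObj D i), O)) : tr D a b h O x = (dHom D a b h).app O x := by
  rw [tr_def]

theorem tr_self {i : ι} {Y : Scheme.{u}} (a : Y ⟶ X i) (O : Y.Opens) (x : Γ(pb a (dObj D i), O)) :
    tr D a a rfl O x = x := by
  rw [tr_apply, dHom_self]
  rfl

theorem tr_tr {i j k : ι} {Y : Scheme.{u}} (a : Y ⟶ X i) (b : Y ⟶ X j) (c : Y ⟶ X k)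
    (hab : a ≫ f i = b ≫ f j) (hbc : b ≫ f j = c ≫ f k) (O : Y.Opens) (x : Γ(pb a (dObj D i), O)) :
    tr D b c hbc O (tr D a b hab O x) = tr D a c (hab.trans hbc) O x := by
  rw [tr_apply, tr_apply, tr_apply, ← dHom_comp D a b c hab hbc]
  rfl

theorem tr_map {i j : ι} {Y : Scheme.{u}} (a : Y ⟶ X i) (b : Y ⟶ X j) (h : a ≫ f i = b ≫ f j) {O O' : Y.Opens}
    (hO : O' ≤ O) (x : Γ(pb a (dObj D i), O)) :
    tr D a b h O' ((pb a (dObj D i)).presheaf.map (homOfLE hO).op x) =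
      (pb b (dObj D j)).presheaf.map (homOfLE hO).op (tr D a b h O x) := by
  rw [tr_apply, tr_apply, QCohLib.app_map]

theorem tr_smul {i j : ι} {Y : Scheme.{u}} (a : Y ⟶ X i) (b : Y ⟶ X j) (h : a ≫ f i = b ≫ f j) {O : Y.Opens}
    (c : Γ(Y, O)) (x : Γ(pb a (dObj D i), O)) : tr D a b h O (c • x) = c • tr D a b h O x := by
  rw [tr_apply, tr_apply, QCohLib.app_smul]

theorem tr_pullLE {i j : ι} {Y Y' : Scheme.{u}} (g : Y' ⟶ Y) (a : Y ⟶ X i) (b : Y ⟶ X j)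
    (h : a ≫ f i = b ≫ f j) (a' : Y' ⟶ X i) (b' : Y' ⟶ X j) (ha' : g ≫ a = a') (hb' : g ≫ b = b')
    (h' : a' ≫ f i = b' ≫ f j) {O : Y.Opens} {O' : Y'.Opens} (le : O' ≤ g ⁻¹ᵁ O) (x : Γ(pb a (dObj D i), O)) :
    tr D a' b' h' O' (pullLE (dObj D i) g ha' le x) = pullLE (dObj D j) g hb' le (tr D a b h O x) := by
  rw [tr_apply, tr_apply, pullLE_eq_compIso, pullLE_eq_compIso, ← CohCmpLib.puSecLE_natural]
  exact (congr($(congrArg (fun ψ => Scheme.Modules.Hom.app ψ O') (dHom_pull D g a b h a' b' ha' hb' h'))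
    (puSecLE g (pb a (dObj D i)) le x))).symm

end QCohDescLib
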