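import Groth.Agent.QCohDescLib.Datum

/-!
# The module of compatible families of a descent datum
-/

set_option autoImplicit false
set_option linter.style.haveILetI false
set_option backward.isDefEq.respectTransparency.types false

noncomputable section

universe u v

open CategoryTheory CategoryTheory.Limits AlgebraicGeometry TopologicalSpace Opposite
open KFlatLib (pb puSec puSecLE)


namespace QCohDescLib

variable {ι : Type u} {S : Scheme.{u}} {X : ι → Scheme.{u}} {f : ∀ i, X i ⟶ S}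
  (D : Desc.modPF.{u}.DescentData f)

/-- A family of sections over an open. -/
abbrev Fam (U : S.Opens) : Type u := ∀ i, Γ((Scheme.Modules.pushforward (f i)).obj (dObj D i), U)

/-- A component, as a section upstairs. -/
abbrev comp' {U : S.Opens} (s : Fam D U) (i : ι) : Γ(dObj D i, f i ⁻¹ᵁ U) := s i

/-- Being glued by the datum. -/
def Glued (U : S.Opens) (s : Fam D U) : Prop :=
  ∀ i j (Y : Scheme.{u}) (a : Y ⟶ X i) (b : Y ⟶ X j) (h : a ≫ f i = b ≫ f j) (O : Y.Opens)
    (la : O ≤ a ⁻¹ᵁ (f i ⁻¹ᵁ U)) (lb : O ≤ b ⁻¹ᵁ (f j ⁻¹ᵁ U)),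
      tr D a b h O (puSecLE a (dObj D i) la (comp' D s i)) = puSecLE b (dObj D j) lb (comp' D s j)

theorem appLE_comp_eq {i j : ι} {Y : Scheme.{u}} (a : Y ⟶ X i) (b : Y ⟶ X j) (h : a ≫ f i = b ≫ f j) {U : S.Opens}
    {O : Y.Opens} (la : O ≤ a ⁻¹ᵁ (f i ⁻¹ᵁ U)) (lb : O ≤ b ⁻¹ᵁ (f j ⁻¹ᵁ U)) (r : Γ(S, U)) :
    a.appLE (f i ⁻¹ᵁ U) O la ((f i).app U r) = b.appLE (f j ⁻¹ᵁ U) O lb ((f j).app U r) := by
  rw [Scheme.Hom.app_eq_appLE, Scheme.Hom.app_eq_appLE, ← ConcreteCategory.comp_apply, ← ConcreteCategory.comp_apply,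
    Scheme.Hom.appLE_comp_appLE, Scheme.Hom.appLE_comp_appLE]
  simp only [h]

/-- The glued families. -/
def gSub (U : S.Opens) : Submodule Γ(S, U) (Fam D U) where
  carrier := {s | Glued D U s}
  zero_mem' := fun i j Y a b h O la lb => by
    show tr D a b h O (puSecLE a (dObj D i) la 0) = puSecLE b (dObj D j) lb 0
    rw [map_zero, map_zero, map_zero]
  add_mem' := fun {s t} hs ht i j Y a b h O la lb => by
    show tr D a b h O (puSecLE a (dObj D i) la (comp' D s i + comp' D t i)) =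
      puSecLE b (dObj D j) lb (comp' D s j + comp' D t j)
    rw [map_add, map_add, map_add, hs i j Y a b h O la lb, ht i j Y a b h O la lb]
  smul_mem' := fun r s hs i j Y a b h O la lb => by
    show tr D a b h O (puSecLE a (dObj D i) la ((f i).app U r • comp' D s i)) =
      puSecLE b (dObj D j) lb ((f j).app U r • comp' D s j)
    rw [KFlatLib.puSecLE_smul, KFlatLib.puSecLE_smul, tr_smul, hs i j Y a b h O la lb, appLE_comp_eq a b h la lb r]

/-- Restriction of glued families. -/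
def gRes {U V : S.Opens} (h : V ≤ U) : gSub D U →+ gSub D V where
  toFun s := ⟨fun i => AmpleLib.res ((Scheme.Modules.pushforward (f i)).obj (dObj D i)) h (s.1 i), fun i j Y a b e O la lb => by
    show tr D a b e O (puSecLE a (dObj D i) la (AmpleLib.res (dObj D i) ((f i).preimage_mono h) (comp' D s.1 i))) =
      puSecLE b (dObj D j) lb (AmpleLib.res (dObj D j) ((f j).preimage_mono h) (comp' D s.1 j))
    rw [CubeLib.puSecLE_res, CubeLib.puSecLE_res]
    exact s.2 i j Y a b e O _ _⟩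
  map_zero' := Subtype.ext (funext fun i =>
    map_zero (((Scheme.Modules.pushforward (f i)).obj (dObj D i)).presheaf.map (homOfLE h).op).hom)
  map_add' s t := Subtype.ext (funext fun i =>
    map_add (((Scheme.Modules.pushforward (f i)).obj (dObj D i)).presheaf.map (homOfLE h).op).hom (s.1 i) (t.1 i))

/-- The presheaf of glued families. -/
def gPre : (Opens S)ᵒᵖ ⥤ AddCommGrpCat.{u} where
  obj U := AddCommGrpCat.of (gSub D U.unop)
  map g := AddCommGrpCat.ofHom (gRes D (leOfHom g.unop))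
  map_id U := AddCommGrpCat.ext fun (s : gSub D U.unop) => Subtype.ext (funext fun i => by
    exact congr($(((Scheme.Modules.pushforward (f i)).obj (dObj D i)).presheaf.map_id U) (s.1 i)))
  map_comp {U V W} g g' := AddCommGrpCat.ext fun (s : gSub D U.unop) => Subtype.ext (funext fun i => by
    exact congr($(((Scheme.Modules.pushforward (f i)).obj (dObj D i)).presheaf.map_comp g g') (s.1 i)))

/-- As a presheaf of modules. -/
def gPMod : S.PresheafOfModules :=
  letI : ∀ U : (Opens S)ᵒᵖ, Module (S.ringCatSheaf.obj.obj U) ((gPre D).obj U) := fun U =>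
    inferInstanceAs (Module Γ(S, U.unop) (gSub D U.unop))
  PresheafOfModules.ofPresheaf (gPre D) fun U V g (r : Γ(S, U.unop)) (s : gSub D U.unop) =>
    Subtype.ext (funext fun i =>
      Scheme.Modules.map_smul ((Scheme.Modules.pushforward (f i)).obj (dObj D i)) g.unop r (s.1 i))

theorem gPre_isSheaf : TopCat.Presheaf.IsSheaf (X := S.toTopCat) (gPre D) := by
  rw [TopCat.Presheaf.isSheaf_iff_isSheafUniqueGluing]
  intro κ U sf hsf
  have hg : ∀ k, ∃! g : Γ((Scheme.Modules.pushforward (f k)).obj (dObj D k), iSup U), ∀ l,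
      AmpleLib.res _ (le_iSup U l) g = (show gSub D (U l) from sf l).1 k := fun k => by
    refine TopCat.Sheaf.existsUnique_gluing'
      ((QCohLib.toAbF S).obj ((Scheme.Modules.pushforward (f k)).obj (dObj D k)) : TopCat.Sheaf AddCommGrpCat _)
      U (iSup U) (fun l => homOfLE (le_iSup U l)) le_rfl (fun l => (show gSub D (U l) from sf l).1 k)
      fun l l' => congrArg (fun s : gSub D (U l ⊓ U l') => s.1 k) (hsf l l')
  choose g hg huniq using hg
  have hglued : Glued D (iSup U) g := fun i j Y a b h O la lb => by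
    let cO := fun l => O ⊓ a ⁻¹ᵁ (f i ⁻¹ᵁ U l)
    refine TopCat.Sheaf.eq_of_locally_eq' ((QCohLib.toAbF Y).obj (pb b (dObj D j)) : TopCat.Sheaf AddCommGrpCat _)
      cO O (fun l => homOfLE inf_le_left) (fun y hy => by
        obtain ⟨l, hl⟩ := Opens.mem_iSup.1 (show f i (a y) ∈ iSup U from la hy)
        exact Opens.mem_iSup.2 ⟨l, hy, hl⟩) _ _ fun l => ?_
    show AmpleLib.res (pb b (dObj D j)) inf_le_left (tr D a b h O _) = AmpleLib.res (pb b (dObj D j)) inf_le_left _
    refine (tr_map D a b h inf_le_left _).symm.trans ?_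
    show tr D a b h (cO l) (AmpleLib.res (pb a (dObj D i)) inf_le_left _) = _
    rw [CubeLib.res_puSecLE, CubeLib.res_puSecLE]
    have la' : cO l ≤ a ⁻¹ᵁ (f i ⁻¹ᵁ U l) := inf_le_right
    have lb' : cO l ≤ b ⁻¹ᵁ (f j ⁻¹ᵁ U l) := fun y hy => by
      show (b ≫ f j) y ∈ U l
      rw [← h]
      exact (la' hy : _)
    have e := (show gSub D (U l) from sf l).2 i j Y a b h (cO l) la' lb'
    have ei : AmpleLib.res (dObj D i) ((f i).preimage_mono (le_iSup U l)) (comp' D g i) =
      comp' D (show gSub D (U l) from sf l).1 i := hg i l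
    have ej : AmpleLib.res (dObj D j) ((f j).preimage_mono (le_iSup U l)) (comp' D g j) =
      comp' D (show gSub D (U l) from sf l).1 j := hg j l
    rw [← ei, ← ej, CubeLib.puSecLE_res, CubeLib.puSecLE_res] at e
    exact e
  refine ⟨⟨g, hglued⟩, fun l => Subtype.ext (funext fun k => hg k l), fun y hy => Subtype.ext (funext fun k => ?_)⟩
  exact huniq k ((show gSub D (iSup U) from y).1 k) fun l => congrArg (fun s : gSub D (U l) => s.1 k) (hy l)

/-- The descended module. -/
def dMod : S.Modules := ⟨gPMod D, gPre_isSheaf D⟩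

/-- A component of a section of the descended module. -/
def dComp {U : S.Opens} (i : ι) : Γ(dMod D, U) →+ Γ(dObj D i, f i ⁻¹ᵁ U) :=
  AddMonoidHom.mk' (fun s => comp' D (show gSub D U from s).1 i) fun _ _ => rfl

theorem dComp_glued {U : S.Opens} (s : Γ(dMod D, U)) : Glued D U (show gSub D U from s).1 :=
  (show gSub D U from s).2

theorem dComp_ext {U : S.Opens} {s t : Γ(dMod D, U)} (h : ∀ i, dComp D i s = dComp D i t) : s = t :=
  Subtype.ext (funext h)

theorem dComp_res {U V : S.Opens} (h : V ≤ U) (i : ι) (s : Γ(dMod D, U)) :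
    dComp D i (AmpleLib.res (dMod D) h s) = AmpleLib.res (dObj D i) ((f i).preimage_mono h) (dComp D i s) := rfl

theorem dComp_smul {U : S.Opens} (i : ι) (r : Γ(S, U)) (s : Γ(dMod D, U)) :
    dComp D i (r • s) = (f i).app U r • dComp D i s := rfl

theorem tr_dComp {U : S.Opens} (s : Γ(dMod D, U)) {i j : ι} {Y : Scheme.{u}} (a : Y ⟶ X i) (b : Y ⟶ X j)
    (h : a ≫ f i = b ≫ f j) {O : Y.Opens} (la : O ≤ a ⁻¹ᵁ (f i ⁻¹ᵁ U)) (lb : O ≤ b ⁻¹ᵁ (f j ⁻¹ᵁ U)) :
    tr D a b h O (puSecLE a (dObj D i) la (dComp D i s)) = puSecLE b (dObj D j) lb (dComp D j s) :=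
  (show gSub D U from s).2 i j Y a b h O la lb

/-- The component as a map to the direct image. -/
def evHom (i : ι) : dMod D ⟶ (Scheme.Modules.pushforward (f i)).obj (dObj D i) :=
  ⟨PresheafOfModules.homMk
    { app := fun U => AddCommGrpCat.ofHom (dComp D i (U := U.unop))
      naturality := fun U V g => AddCommGrpCat.ext fun s => dComp_res D (leOfHom g.unop) i s }
    fun U r s => dComp_smul D i r s⟩

/-- The comparison with the datum. -/
def evI (i : ι) : pb (f i) (dMod D) ⟶ dObj D i :=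
  ((Scheme.Modules.pullbackPushforwardAdjunction (f i)).homEquiv _ _).symm (evHom D i)

theorem evI_puSec (i : ι) {U : S.Opens} (s : Γ(dMod D, U)) :
    (evI D i).app (f i ⁻¹ᵁ U) (puSec (f i) s) = dComp D i s :=
  congr($(congrArg (fun φ => Scheme.Modules.Hom.app φ U)
    (((Scheme.Modules.pullbackPushforwardAdjunction (f i)).homEquiv _ _).apply_symm_apply (evHom D i))) s)

theorem evI_comm {i j : ι} {Y : Scheme.{u}} (a : Y ⟶ X i) (b : Y ⟶ X j) (q : Y ⟶ S) (ha : a ≫ f i = q)
    (hb : b ≫ f j = q) :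
    (Scheme.Modules.pullback a).map (evI D i) ≫ dHom D a b (ha.trans hb.symm) =
      ((compIso (dMod D) a ha).hom ≫ (compIso (dMod D) b hb).inv) ≫ (Scheme.Modules.pullback b).map (evI D j) := by
  rw [← cancel_epi (compIso (dMod D) a ha).inv]
  refine hom_ext_puSec (dMod D) fun U s => ?_
  have la : q ⁻¹ᵁ U ≤ a ⁻¹ᵁ (f i ⁻¹ᵁ U) := by subst ha; exact le_refl _
  have lb : q ⁻¹ᵁ U ≤ b ⁻¹ᵁ (f j ⁻¹ᵁ U) := by subst hb; exact le_refl _
  have hk : ∀ (k : ι) (c : Y ⟶ X k) (hc : c ≫ f k = q) (lc : q ⁻¹ᵁ U ≤ c ⁻¹ᵁ (f k ⁻¹ᵁ U)),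
      (compIso (dMod D) c hc).inv.app (q ⁻¹ᵁ U) (puSec q s) =
        puSecLE c (pb (f k) (dMod D)) lc (puSec (f k) s) := fun k c hc lc => by
    refine (ConcreteCategory.bijective_of_isIso ((compIso (dMod D) c hc).hom.app (q ⁻¹ᵁ U))).1 ?_
    refine (congr($(congrArg (fun ψ => Scheme.Modules.Hom.app ψ (q ⁻¹ᵁ U)) (compIso (dMod D) c hc).inv_hom_id) _)).trans ?_
    rw [← pullLE_eq_compIso, ← puSecLE_rfl (dMod D) s (h := f k), pullLE_puSecLE _ c hc le_rfl lc le_rfl]
    exact (puSecLE_rfl (dMod D) s).symm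
  show (dHom D a b _).app (q ⁻¹ᵁ U) (((Scheme.Modules.pullback a).map (evI D i)).app _
      ((compIso (dMod D) a ha).inv.app _ (puSec q s))) =
    ((Scheme.Modules.pullback b).map (evI D j)).app _ ((compIso (dMod D) b hb).inv.app _
      ((compIso (dMod D) a ha).hom.app _ ((compIso (dMod D) a ha).inv.app _ (puSec q s))))
  rw [show (compIso (dMod D) a ha).hom.app _ ((compIso (dMod D) a ha).inv.app _ (puSec q s)) = puSec q s from
    congr($(congrArg (fun ψ => Scheme.Modules.Hom.app ψ (q ⁻¹ᵁ U)) (compIso (dMod D) a ha).inv_hom_id) _),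
    hk i a ha la, hk j b hb lb, CohCmpLib.puSecLE_natural, CohCmpLib.puSecLE_natural, evI_puSec, evI_puSec,
    ← tr_apply D a b _ _]
  exact tr_dComp D s a b _ la lb

end QCohDescLib
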