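import Groth.Agent.QCohDescLib.Sec
import Groth.Agent.QCohDescLib.Alg

/-!
# The gluing map on the sections of a pulled back module
-/

set_option autoImplicit false
set_option linter.style.haveILetI false
set_option maxHeartbeats 400000

noncomputable section

universe u

open CategoryTheory CategoryTheory.Limits AlgebraicGeometry TopologicalSpace Opposite TensorProduct
open KFlatLib (pb puSec puSecLE)
open ModEffLib (i₁ i₂ p₁ p₂ p₃ g₁₂ g₁₃ g₂₃)
open Groth.Agent.WittDescLib (et et_induction)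

namespace QCohDescLib

variable (A B : Type u) [CommRing A] [CommRing B] [Algebra A B] (M : (Spec (CommRingCat.of A)).Modules)

/-- The structure map. -/
abbrev qmap : Spec (CommRingCat.of B) ⟶ Spec (CommRingCat.of A) := sp (algebraMap A B)

theorem sp_comp {T T' : Type u} [CommRing T] [CommRing T'] [Algebra A T] [Algebra A T'] (φ : T →+* T')
    (h : φ.comp (algebraMap A T) = algebraMap A T') : sp φ ≫ qmap A T = qmap A T' := by
  show _ = sp (algebraMap A T')
  rw [← h, ← Spec.map_comp]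
  rfl

theorem i₁_comp : (i₁ (A := A) (B := B)).comp (algebraMap A B) = algebraMap A (B ⊗[A] B) :=
  RingHom.ext fun _ => rfl

theorem i₂_comp : (i₂ (A := A) (B := B)).comp (algebraMap A B) = algebraMap A (B ⊗[A] B) :=
  (Algebra.TensorProduct.includeRight : B →ₐ[A] B ⊗[A] B).comp_algebraMap

theorem g₂₃_comp : (g₂₃ (A := A) (B := B)).comp (algebraMap A (B ⊗[A] B)) = algebraMap A (B ⊗[A] (B ⊗[A] B)) :=
  (Algebra.TensorProduct.includeRight : B ⊗[A] B →ₐ[A] B ⊗[A] (B ⊗[A] B)).comp_algebraMap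

theorem g₁₂_comp : (g₁₂ (A := A) (B := B)).comp (algebraMap A (B ⊗[A] B)) = algebraMap A (B ⊗[A] (B ⊗[A] B)) :=
  RingHom.ext fun r => (Algebra.TensorProduct.map (AlgHom.id A B) (Algebra.TensorProduct.includeLeft : B →ₐ[A] B ⊗[A] B)).commutes r

theorem g₁₃_comp : (g₁₃ (A := A) (B := B)).comp (algebraMap A (B ⊗[A] B)) = algebraMap A (B ⊗[A] (B ⊗[A] B)) :=
  RingHom.ext fun r => (Algebra.TensorProduct.map (AlgHom.id A B) (Algebra.TensorProduct.includeRight : B →ₐ[A] B ⊗[A] B)).commutes r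

theorem p₁_comp : (p₁ (A := A) (B := B)).comp (algebraMap A B) = algebraMap A (B ⊗[A] (B ⊗[A] B)) :=
  RingHom.ext fun _ => rfl

theorem p₂_comp : (p₂ (A := A) (B := B)).comp (algebraMap A B) = algebraMap A (B ⊗[A] (B ⊗[A] B)) := by
  show (g₂₃.comp i₁).comp (algebraMap A B) = _
  rw [RingHom.comp_assoc, i₁_comp, g₂₃_comp]

theorem p₃_comp : (p₃ (A := A) (B := B)).comp (algebraMap A B) = algebraMap A (B ⊗[A] (B ⊗[A] B)) := by
  show (g₂₃.comp i₂).comp (algebraMap A B) = _
  rw [RingHom.comp_assoc, i₂_comp, g₂₃_comp]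

variable [Coh.IsQCoh (pb (qmap A B) M)]

/-- The base change along a map out of the algebra. -/
def eqv {T : Type u} [CommRing T] [Algebra A T] (φ : B →+* T) (h : φ.comp (algebraMap A B) = algebraMap A T) :
    (ModuleCat.extendScalars φ).obj (Sec M (qmap A B)) ≅ Sec M (qmap A T) :=
  @asIso _ _ _ _ (extHom M φ (sp_comp A φ h)) (isIso_extHom M φ (sp_comp A φ h))

theorem eqv_et {T : Type u} [CommRing T] [Algebra A T] (φ : B →+* T) (h : φ.comp (algebraMap A B) = algebraMap A T)
    (x : Sec M (qmap A B)) : (eqv A B M φ h).hom (et φ (Sec M (qmap A B)) 1 x) = res M φ (sp_comp A φ h) x :=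
  extHom_et_one M φ (sp_comp A φ h) x

theorem res'_smul {T T' : Type u} [CommRing T] [CommRing T'] [Algebra A T] [Algebra A T'] (φ : T →+* T')
    (h : φ.comp (algebraMap A T) = algebraMap A T') : SemiMap φ (res M φ (sp_comp A φ h)) :=
  fun w z => res_smul M φ (sp_comp A φ h) w z

theorem eqv_res {T T' : Type u} [CommRing T] [CommRing T'] [Algebra A T] [Algebra A T'] (i : B →+* T)
    (g : T →+* T') (p : B →+* T') (hip : g.comp i = p) (hi : i.comp (algebraMap A B) = algebraMap A T)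
    (hg : g.comp (algebraMap A T) = algebraMap A T') (hp : p.comp (algebraMap A B) = algebraMap A T')
    : ExtBy (Sec M (qmap A B)) p (eqv A B M p hp)
      (fun x => res M g (sp_comp A g hg) (res M i (sp_comp A i hi) x)) :=
  fun x => (eqv_et A B M p hp x).trans (res_res M i g p hip (sp_comp A i hi) (sp_comp A g hg) (sp_comp A p hp) x).symm

theorem eqv_ext {T : Type u} [CommRing T] [Algebra A T] (i : B →+* T)
    (hi : i.comp (algebraMap A B) = algebraMap A T) :
    ExtBy (Sec M (qmap A B)) i (eqv A B M i hi) (res M i (sp_comp A i hi)) :=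
  fun x => eqv_et A B M i hi x

theorem res_algebraMap {T : Type u} [CommRing T] [Algebra A T] (i : B →+* T)
    (hi : i.comp (algebraMap A B) = algebraMap A T) (a : A) (x : Sec M (qmap A B)) :
    res M i (sp_comp A i hi) (algebraMap A B a • x) = algebraMap A T a • res M i (sp_comp A i hi) x :=
  (res'_smul A M i hi (algebraMap A B a) x).trans (congrArg (· • res M i (sp_comp A i hi) x) congr($hi a))

/-- The elements with equal restrictions along two maps. -/
def invSub [Module A (Sec M (qmap A B))] [IsScalarTower A B (Sec M (qmap A B))] {T : Type u} [CommRing T]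
    [Algebra A T] (i j : B →+* T) (hi : i.comp (algebraMap A B) = algebraMap A T)
    (hj : j.comp (algebraMap A B) = algebraMap A T) : Submodule A (Sec M (qmap A B)) where
  carrier := {x | res M i (sp_comp A i hi) x = res M j (sp_comp A j hj) x}
  zero_mem' := by
    show res M i (sp_comp A i hi) 0 = res M j (sp_comp A j hj) 0
    rw [map_zero, map_zero]
  add_mem' := fun {x y} (hx : res M i (sp_comp A i hi) x = res M j (sp_comp A j hj) x)
      (hy : res M i (sp_comp A i hi) y = res M j (sp_comp A j hj) y) => by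
    show res M i (sp_comp A i hi) (x + y) = res M j (sp_comp A j hj) (x + y)
    rw [map_add, map_add, hx, hy]
  smul_mem' := fun a x (hx : res M i (sp_comp A i hi) x = res M j (sp_comp A j hj) x) => by
    show res M i (sp_comp A i hi) (a • x) = res M j (sp_comp A j hj) (a • x)
    rw [← algebraMap_smul B a x, res_algebraMap A B M i hi a x, res_algebraMap A B M j hj a x, hx]

/-- The elements whose two restrictions agree descend the sections upstairs. -/
theorem bijective_invariants [Module A (Sec M (qmap A B))] [IsScalarTower A B (Sec M (qmap A B))] [Module.FaithfullyFlat A B]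
    (N : Submodule A (Sec M (qmap A B)))
    (hN : ∀ x, x ∈ N ↔ res M (i₁ (A := A) (B := B)) (sp_comp A (i₁ (A := A) (B := B)) (i₁_comp A B)) x = res M (i₂ (A := A) (B := B)) (sp_comp A (i₂ (A := A) (B := B)) (i₂_comp A B)) x) :
    Function.Bijective ((TensorProduct.lift (Algebra.lsmul A A (Sec M (qmap A B))).toLinearMap) ∘ₗ
      (LinearMap.lTensor B N.subtype)) :=
  bijective_of_identified (Sec M (qmap A B)) (Sec M (qmap A (B ⊗[A] B))) (Sec M (qmap A (B ⊗[A] (B ⊗[A] B))))
    (eqv A B M (i₁ (A := A) (B := B)) (i₁_comp A B)) (eqv A B M (i₂ (A := A) (B := B)) (i₂_comp A B)) (eqv A B M (p₁ (A := A) (B := B)) (p₁_comp A B))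
    (eqv A B M (p₂ (A := A) (B := B)) (p₂_comp A B)) (eqv A B M (p₃ (A := A) (B := B)) (p₃_comp A B))
    (res M (i₁ (A := A) (B := B)) (sp_comp A (i₁ (A := A) (B := B)) (i₁_comp A B))) (res M (i₂ (A := A) (B := B)) (sp_comp A (i₂ (A := A) (B := B)) (i₂_comp A B)))
    (eqv_ext A B M (i₁ (A := A) (B := B)) (i₁_comp A B)) (eqv_ext A B M (i₂ (A := A) (B := B)) (i₂_comp A B))
    (res M (g₁₂ (A := A) (B := B)) (sp_comp A (g₁₂ (A := A) (B := B)) (g₁₂_comp A B))) (res M (g₂₃ (A := A) (B := B)) (sp_comp A (g₂₃ (A := A) (B := B)) (g₂₃_comp A B))) (res M (g₁₃ (A := A) (B := B)) (sp_comp A (g₁₃ (A := A) (B := B)) (g₁₃_comp A B)))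
    (res'_smul A M (g₁₂ (A := A) (B := B)) (g₁₂_comp A B)) (res'_smul A M (g₂₃ (A := A) (B := B)) (g₂₃_comp A B)) (res'_smul A M (g₁₃ (A := A) (B := B)) (g₁₃_comp A B))
    (eqv_res A B M (i₁ (A := A) (B := B)) (g₁₂ (A := A) (B := B)) (p₁ (A := A) (B := B)) ModEffLib.g₁₂_i₁ (i₁_comp A B) (g₁₂_comp A B) (p₁_comp A B)) (eqv_res A B M (i₂ (A := A) (B := B)) (g₁₂ (A := A) (B := B)) (p₂ (A := A) (B := B)) ModEffLib.g₁₂_i₂ (i₂_comp A B) (g₁₂_comp A B) (p₂_comp A B))
    (eqv_res A B M (i₁ (A := A) (B := B)) (g₂₃ (A := A) (B := B)) (p₂ (A := A) (B := B)) rfl (i₁_comp A B) (g₂₃_comp A B) (p₂_comp A B)) (eqv_res A B M (i₂ (A := A) (B := B)) (g₂₃ (A := A) (B := B)) (p₃ (A := A) (B := B)) rfl (i₂_comp A B) (g₂₃_comp A B) (p₃_comp A B))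
    (eqv_res A B M (i₁ (A := A) (B := B)) (g₁₃ (A := A) (B := B)) (p₁ (A := A) (B := B)) ModEffLib.g₁₃_i₁ (i₁_comp A B) (g₁₃_comp A B) (p₁_comp A B)) (eqv_res A B M (i₂ (A := A) (B := B)) (g₁₃ (A := A) (B := B)) (p₃ (A := A) (B := B)) ModEffLib.g₁₃_i₂ (i₂_comp A B) (g₁₃_comp A B) (p₃_comp A B))
    N hN

end QCohDescLib
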