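import Groth.Agent.QCohDescLib.Desc
import Groth.Agent.QCohDescLib.Finite
import Groth.Agent.QCohLib.Affine
import Groth.Agent.RpushLib.HBase

/-!
# The descended module over an affine open
-/

set_option autoImplicit false
set_option linter.style.haveILetI false
set_option backward.isDefEq.respectTransparency false
set_option backward.isDefEq.respectTransparency.types false
set_option maxHeartbeats 1000000

noncomputable section

universe u v

open CategoryTheory CategoryTheory.Limits AlgebraicGeometry TopologicalSpace Opposite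
open KFlatLib (pb puSec puSecLE)

namespace QCohDescLib

theorem appLE_app {S W W' : Scheme.{u}} (g : W' ⟶ W) (h : W ⟶ S) {h' : W' ⟶ S} (e : g ≫ h = h') {U : S.Opens}
    {O' : W'.Opens} (le : O' ≤ g ⁻¹ᵁ (h ⁻¹ᵁ U)) (le' : O' ≤ h' ⁻¹ᵁ U) (r : Γ(S, U)) :
    g.appLE (h ⁻¹ᵁ U) O' le (h.app U r) = h'.appLE U O' le' r := by
  subst e
  rw [Scheme.Hom.app_eq_appLE, ← ConcreteCategory.comp_apply, Scheme.Hom.appLE_comp_appLE]

theorem pullLE_id {S W : Scheme.{u}} (M : S.Modules) (h : W ⟶ S) {O : W.Opens} (le : O ≤ (𝟙 W : W ⟶ W) ⁻¹ᵁ O)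
    (x : Γ(pb h M, O)) : pullLE M (𝟙 W) (Category.id_comp h) le x = x := by
  refine pullLE_injective M (fun _ : PUnit.{1} => 𝟙 W) (fun _ => Category.id_comp h) (fun _ => O) (fun _ => le)
    (fun y hy => ⟨PUnit.unit, y, hy, rfl⟩) _ _ fun _ => ?_
  rw [pullLE_pullLE M (𝟙 W) (𝟙 W) (Category.id_comp h) (Category.id_comp h)
    (by rw [Category.id_comp, Category.id_comp]) le le le x]
  exact pullLE_congr M (Category.id_comp _) _ _ _ _ x

variable {ι : Type u} {S : Scheme.{u}} {X : ι → Scheme.{u}} {f : ∀ i, X i ⟶ S}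
  (D : Desc.modPF.{u}.DescentData f)

/-- A finite affine refinement of the family over an open. -/
structure Refine (f : ∀ i, X i ⟶ S) (U : S.Opens) where
  m : ℕ
  idx : Fin m → ι
  V : Fin m → Scheme.{u}
  o : ∀ k, V k ⟶ X (idx k)
  affine : ∀ k, IsAffine (V k)
  flat : ∀ k, Flat (o k ≫ f (idx k))
  le : ∀ k, (⊤ : (V k).Opens) ≤ (o k ≫ f (idx k)) ⁻¹ᵁ U
  cover : ∀ x ∈ U, ∃ k v, (o k ≫ f (idx k)) v = x

attribute [instance] Refine.affine

theorem exists_refine (hf : Presieve.ofArrows X f ∈ Scheme.fpqcPrecoverage S) {U : S.Opens} (hU : IsAffineOpen U) :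
    Nonempty (Refine f U) := by
  obtain ⟨m, a, V, o, b, hV, -, hob, -, hflat, hsurj, -⟩ := DescLib.exists_affine_refinement hf hU
  have hb : ∀ k, Sigma.ι V k ≫ Limits.Sigma.desc b = b k := fun k => Sigma.ι_desc _ _
  refine ⟨⟨m, a, V, o, hV, fun k => ?_, fun k y _ => ?_, fun x hx => ?_⟩⟩
  · rw [hob k, ← hb k]
    infer_instance
  · show (o k ≫ f (a k)) y ∈ (U : Set S)
    rw [hob k]
    exact (b k y).2
  · obtain ⟨z, hz⟩ := (Limits.Sigma.desc b).surjective ⟨x, hx⟩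
    obtain ⟨v, hv⟩ := (sigmaOpenCover V).covers z
    refine ⟨(sigmaOpenCover V).idx z, v, ?_⟩
    rw [hob, ← hb]
    show (Limits.Sigma.desc b ((sigmaOpenCover V).f _ v)).1 = x
    rw [hv, hz]

namespace Refine

variable {U : S.Opens} (R : Refine f U)

/-- A member of the refinement, over the base. -/
abbrev p (k : Fin R.m) : R.V k ⟶ S := R.o k ≫ f (R.idx k)

/-- The module of the datum on a member of the refinement. -/
abbrev mo (k : Fin R.m) : (R.V k).Modules := pb (R.o k) (dObj D (R.idx k))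

theorem preimage_self (k : Fin R.m) : R.p k ⁻¹ᵁ U = ⊤ := top_le_iff.1 (R.le k)

theorem isAffineOpen_preimage (k : Fin R.m) : IsAffineOpen (R.p k ⁻¹ᵁ U) := by
  rw [preimage_self]; exact isAffineOpen_top _

/-- A section of the descended module, on a member of the refinement. -/
irreducible_def T (W : S.Opens) (k : Fin R.m) : Γ(dMod D, W) →+ Γ(R.mo D k, R.p k ⁻¹ᵁ W) :=
  (puSecLE (R.o k) (dObj D (R.idx k)) (le_refl (R.o k ⁻¹ᵁ (f (R.idx k) ⁻¹ᵁ W)))).comp (dComp D (R.idx k))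

theorem T_apply (W : S.Opens) (k : Fin R.m) (s : Γ(dMod D, W)) :
    R.T D W k s = puSecLE (R.o k) (dObj D (R.idx k)) (le_refl (R.o k ⁻¹ᵁ (f (R.idx k) ⁻¹ᵁ W))) (dComp D (R.idx k) s) := by
  rw [T_def]; rfl

theorem T_smul (W : S.Opens) (k : Fin R.m) (r : Γ(S, W)) (s : Γ(dMod D, W)) :
    R.T D W k (r • s) = (R.p k).app W r • R.T D W k s := by
  rw [T_apply, T_apply, dComp_smul, KFlatLib.puSecLE_smul]
  congr 1
  rw [Scheme.Hom.app_eq_appLE (R.p k)]
  exact appLE_app (R.o k) (f (R.idx k)) rfl _ _ r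

theorem T_res {W W' : S.Opens} (h : W' ≤ W) (k : Fin R.m) (s : Γ(dMod D, W)) :
    R.T D W' k (AmpleLib.res (dMod D) h s) = AmpleLib.res (R.mo D k) ((R.p k).preimage_mono h) (R.T D W k s) := by
  rw [T_apply, T_apply, dComp_res, CubeLib.puSecLE_res]
  exact (CubeLib.res_puSecLE (R.o k) (dObj D (R.idx k)) le_rfl ((R.p k).preimage_mono h) _).symm

theorem pullLE_T (W : S.Opens) (k : Fin R.m) (s : Γ(dMod D, W)) {Y : Scheme.{u}} (u : Y ⟶ R.V k)
    (z : Y ⟶ X (R.idx k)) (ez : u ≫ R.o k = z) {O : Y.Opens} (le : O ≤ u ⁻¹ᵁ (R.p k ⁻¹ᵁ W))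
    (lz : O ≤ z ⁻¹ᵁ (f (R.idx k) ⁻¹ᵁ W)) :
    pullLE (dObj D (R.idx k)) u ez le (R.T D W k s) = puSecLE z (dObj D (R.idx k)) lz (dComp D (R.idx k) s) := by
  rw [T_apply]
  exact pullLE_puSecLE _ u ez le_rfl le lz _

theorem T_injective {W : S.Opens} (hW : W ≤ U) (s t : Γ(dMod D, W)) (h : ∀ k, R.T D W k s = R.T D W k t) : s = t := by
  haveI := R.flat
  refine dComp_ext D fun i => ?_
  let c : ∀ k : ULift.{u} (Fin R.m), pullback (f i) (R.p k.down) ⟶ X i := fun k => pullback.fst _ _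
  haveI : ∀ k, Flat (c k) := fun k => inferInstanceAs (Flat (pullback.fst (f i) (R.p k.down)))
  refine puSecLE_injective_of_flat c (dObj D i) (fun x hx => ?_) _ _ fun k => ?_
  · obtain ⟨k, v, hv⟩ := R.cover (f i x) (hW hx)
    obtain ⟨w, hw, -⟩ := Scheme.Pullback.exists_preimage_pullback (f := f i) (g := R.p k) x v hv.symm
    exact ⟨⟨k⟩, w, hw⟩
  let sn := pullback.snd (f i) (R.p k.down)
  have e : (sn ≫ R.o k.down) ≫ f (R.idx k.down) = c k ≫ f i := by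
    rw [Category.assoc]; exact pullback.condition.symm
  have lz : c k ⁻¹ᵁ (f i ⁻¹ᵁ W) ≤ (sn ≫ R.o k.down) ⁻¹ᵁ (f (R.idx k.down) ⁻¹ᵁ W) := fun w hw => by
    show ((sn ≫ R.o k.down) ≫ f (R.idx k.down)) w ∈ W
    rw [e]; exact hw
  rw [← tr_dComp D s (sn ≫ R.o k.down) (c k) e lz le_rfl, ← tr_dComp D t (sn ≫ R.o k.down) (c k) e lz le_rfl,
    ← pullLE_T D R W k.down s sn _ rfl lz lz, ← pullLE_T D R W k.down t sn _ rfl lz lz, h]

/-- Being glued by the datum, on the refinement. -/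
def FinGlued (W : S.Opens) (σ : ∀ k, Γ(R.mo D k, R.p k ⁻¹ᵁ W)) : Prop :=
  ∀ (k l : Fin R.m) (Y : Scheme.{u}) (u : Y ⟶ R.V k) (w : Y ⟶ R.V l) (a : Y ⟶ X (R.idx k)) (b : Y ⟶ X (R.idx l))
    (ea : u ≫ R.o k = a) (eb : w ≫ R.o l = b) (h : a ≫ f (R.idx k) = b ≫ f (R.idx l)) (O : Y.Opens)
    (la : O ≤ u ⁻¹ᵁ (R.p k ⁻¹ᵁ W)) (lb : O ≤ w ⁻¹ᵁ (R.p l ⁻¹ᵁ W)),
      tr D a b h O (pullLE (dObj D (R.idx k)) u ea la (σ k)) = pullLE (dObj D (R.idx l)) w eb lb (σ l)

theorem finGlued_T (W : S.Opens) (s : Γ(dMod D, W)) : R.FinGlued D W fun k => R.T D W k s := by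
  intro k l Y u w a b ea eb h O la lb
  subst ea eb
  rw [pullLE_T D R W k s u _ rfl la la, pullLE_T D R W l s w _ rfl lb lb]
  exact tr_dComp D s _ _ h la lb

/-- The overlap of two members. -/
abbrev Y2 (k l : Fin R.m) : Scheme.{u} := pullback (R.p k) (R.p l)

/-- The map to the datum through the first member. -/
abbrev la1 (k l : Fin R.m) : R.Y2 k l ⟶ X (R.idx k) := pullback.fst (R.p k) (R.p l) ≫ R.o k

/-- The map to the datum through the second member. -/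
abbrev la2 (k l : Fin R.m) : R.Y2 k l ⟶ X (R.idx l) := pullback.snd (R.p k) (R.p l) ≫ R.o l

theorem la_comm (k l : Fin R.m) : R.la1 k l ≫ f (R.idx k) = R.la2 k l ≫ f (R.idx l) := by
  rw [Category.assoc, Category.assoc]; exact pullback.condition

theorem le_snd (W : S.Opens) (k l : Fin R.m) :
    pullback.fst (R.p k) (R.p l) ⁻¹ᵁ (R.p k ⁻¹ᵁ W) ≤ pullback.snd (R.p k) (R.p l) ⁻¹ᵁ (R.p l ⁻¹ᵁ W) := fun y hy => by
  show (pullback.snd (R.p k) (R.p l) ≫ R.p l) y ∈ W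
  rw [← pullback.condition]; exact hy

theorem finGlued_of (W : S.Opens) (σ : ∀ k, Γ(R.mo D k, R.p k ⁻¹ᵁ W))
    (h : ∀ k l, tr D (R.la1 k l) (R.la2 k l) (R.la_comm k l) (pullback.fst (R.p k) (R.p l) ⁻¹ᵁ (R.p k ⁻¹ᵁ W))
        (pullLE (dObj D (R.idx k)) (pullback.fst (R.p k) (R.p l)) rfl le_rfl (σ k)) =
      pullLE (dObj D (R.idx l)) (pullback.snd (R.p k) (R.p l)) rfl (R.le_snd W k l) (σ l)) :
    R.FinGlued D W σ := by
  intro k l Y u w a b ea eb hab O la lb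
  have huw : u ≫ R.p k = w ≫ R.p l := by
    rw [← Category.assoc, ← Category.assoc, ea, eb]; exact hab
  let r := pullback.lift u w huw
  have r1 : r ≫ pullback.fst (R.p k) (R.p l) = u := pullback.lift_fst _ _ _
  have r2 : r ≫ pullback.snd (R.p k) (R.p l) = w := pullback.lift_snd _ _ _
  have ra : r ≫ R.la1 k l = a := by rw [← Category.assoc, r1, ea]
  have rb : r ≫ R.la2 k l = b := by rw [← Category.assoc, r2, eb]
  have lr : O ≤ r ⁻¹ᵁ (pullback.fst (R.p k) (R.p l) ⁻¹ᵁ (R.p k ⁻¹ᵁ W)) := fun y hy => by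
    show (r ≫ pullback.fst (R.p k) (R.p l)) y ∈ R.p k ⁻¹ᵁ W
    rw [r1]; exact la hy
  have key := congrArg (pullLE (dObj D (R.idx l)) r rb lr) (h k l)
  rw [← tr_pullLE D r _ _ (R.la_comm k l) a b ra rb hab lr,
    pullLE_pullLE _ (pullback.fst (R.p k) (R.p l)) r rfl ra (by rw [r1, ea]) le_rfl lr lr,
    pullLE_pullLE _ (pullback.snd (R.p k) (R.p l)) r rfl rb (by rw [r2, eb]) _ lr
      (show O ≤ (r ≫ pullback.snd (R.p k) (R.p l)) ⁻¹ᵁ (R.p l ⁻¹ᵁ W) from lr.trans (r.preimage_mono (R.le_snd W k l)))] at key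
  rw [pullLE_congr _ r1.symm ea _ la lr, pullLE_congr _ r2.symm eb _ lb
      (show O ≤ (r ≫ pullback.snd (R.p k) (R.p l)) ⁻¹ᵁ (R.p l ⁻¹ᵁ W) from lr.trans (r.preimage_mono (R.le_snd W k l)))]
  exact key

theorem exists_of_finGlued [hD : ∀ i, Coh.IsQCoh (dObj D i)] {W : S.Opens} (hW : W ≤ U) (hU : IsAffineOpen U)
    (σ : ∀ k, Γ(R.mo D k, R.p k ⁻¹ᵁ W)) (hσ : R.FinGlued D W σ) : ∃ s : Γ(dMod D, W), ∀ k, R.T D W k s = σ k := by
  haveI := R.flat
  have hex : ∀ i, ∃ n : Γ(dObj D i, f i ⁻¹ᵁ W), ∀ (k : Fin R.m) (Y : Scheme.{u}) (u : Y ⟶ R.V k) (c : Y ⟶ X i)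
      (z : Y ⟶ X (R.idx k)) (ez : u ≫ R.o k = z) (h : z ≫ f (R.idx k) = c ≫ f i) (O : Y.Opens)
      (la : O ≤ u ⁻¹ᵁ (R.p k ⁻¹ᵁ W)) (lb : O ≤ c ⁻¹ᵁ (f i ⁻¹ᵁ W)),
      puSecLE c (dObj D i) lb n = tr D z c h O (pullLE (dObj D (R.idx k)) u ez la (σ k)) := by
    intro i
    let c : ∀ k : ULift.{u} (Fin R.m), pullback (f i) (R.p k.down) ⟶ X i := fun k => pullback.fst _ _
    haveI : ∀ k, Flat (c k) := fun k => inferInstanceAs (Flat (pullback.fst (f i) (R.p k.down)))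
    let sn : ∀ k : ULift.{u} (Fin R.m), pullback (f i) (R.p k.down) ⟶ R.V k.down := fun k => pullback.snd _ _
    have e : ∀ k, (sn k ≫ R.o k.down) ≫ f (R.idx k.down) = c k ≫ f i := fun k => by
      rw [Category.assoc]; exact pullback.condition.symm
    have lz : ∀ k, c k ⁻¹ᵁ (f i ⁻¹ᵁ W) ≤ sn k ⁻¹ᵁ (R.p k.down ⁻¹ᵁ W) := fun k w hw => by
      show (sn k ≫ R.p k.down) w ∈ W
      rw [← Category.assoc, e]; exact hw
    let τ : ∀ k, Γ(pb (c k) (dObj D i), c k ⁻¹ᵁ (f i ⁻¹ᵁ W)) := fun k =>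
      tr D (sn k ≫ R.o k.down) (c k) (e k) _ (pullLE (dObj D (R.idx k.down)) (sn k) rfl (lz k) (σ k.down))
    obtain ⟨n, hn⟩ := exists_descend_finite c (dObj D i) (O := f i ⁻¹ᵁ W) (fun x hx => by
        obtain ⟨k, v, hv⟩ := R.cover (f i x) (hW hx)
        obtain ⟨w, hw, -⟩ := Scheme.Pullback.exists_preimage_pullback (f := f i) (g := R.p k) x v hv.symm
        exact ⟨⟨k⟩, w, hw⟩) (fun k W' hW' hle => by
        have := RpushLib.isAffineOpen_fibre (IsPullback.of_hasPullback (f i) (R.p k.down)) hU (isAffineOpen_top _)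
          (R.le k.down) hW' (hle.trans ((f i).preimage_mono hW))
        have h2 := this.isCompact
        rwa [Scheme.Hom.preimage_top, inf_top_eq] at h2) τ
      (fun k l Y a b hY ea eb O la lb => by
        have ka : (a ≫ sn k ≫ R.o k.down) ≫ f (R.idx k.down) = hY ≫ f i := by
          rw [Category.assoc, e, reassoc_of% ea]
        have kb : (b ≫ sn l ≫ R.o l.down) ≫ f (R.idx l.down) = hY ≫ f i := by
          rw [Category.assoc, e, reassoc_of% eb]
        rw [← tr_pullLE D a _ _ (e k) (a ≫ sn k ≫ R.o k.down) hY rfl ea ka la,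
          ← tr_pullLE D b _ _ (e l) (b ≫ sn l ≫ R.o l.down) hY rfl eb kb lb,
          pullLE_pullLE _ (sn k) a rfl rfl (Category.assoc _ _ _) (lz k) la (la.trans (a.preimage_mono (lz k))),
          pullLE_pullLE _ (sn l) b rfl rfl (Category.assoc _ _ _) (lz l) lb (lb.trans (b.preimage_mono (lz l))),
          ← hσ k.down l.down Y (a ≫ sn k) (b ≫ sn l) _ _ (Category.assoc _ _ _) (Category.assoc _ _ _)
            (ka.trans kb.symm) O (la.trans (a.preimage_mono (lz k))) (lb.trans (b.preimage_mono (lz l))), tr_tr])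
    refine ⟨n, fun k Y u cc z ez h O la lb => ?_⟩
    have hcu : cc ≫ f i = u ≫ R.p k := by rw [← Category.assoc, ez]; exact h.symm
    let r := pullback.lift cc u hcu
    have r1 : r ≫ c ⟨k⟩ = cc := pullback.lift_fst _ _ _
    have r2 : r ≫ sn ⟨k⟩ = u := pullback.lift_snd _ _ _
    have rz : r ≫ sn ⟨k⟩ ≫ R.o k = z := by rw [← Category.assoc, r2, ez]
    have lr : O ≤ r ⁻¹ᵁ (c ⟨k⟩ ⁻¹ᵁ (f i ⁻¹ᵁ W)) := fun y hy => by
      show (r ≫ c ⟨k⟩) y ∈ f i ⁻¹ᵁ W
      rw [r1]; exact lb hy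
    have key := congrArg (pullLE (dObj D i) r r1 lr) (hn ⟨k⟩)
    rw [pullLE_puSecLE _ r r1 le_rfl lr lb] at key
    rw [key, ← tr_pullLE D r _ _ (e ⟨k⟩) z cc rz r1 h lr,
      pullLE_pullLE _ (sn ⟨k⟩) r rfl rz (by rw [r2, ez]) (lz ⟨k⟩) lr (lr.trans (r.preimage_mono (lz ⟨k⟩)))]
    exact congrArg (tr D z cc h O) (pullLE_congr _ r2 _ _ _ _ _)
  choose n hn using hex
  have hg : Glued D W n := by
    intro i j Y a b h O la lb
    let q : ∀ k, pullback (a ≫ f i) (R.p k) ⟶ Y := fun k => pullback.fst _ _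
    haveI : ∀ k, Flat (q k) := fun k => inferInstanceAs (Flat (pullback.fst (a ≫ f i) (R.p k)))
    let sn : ∀ k, pullback (a ≫ f i) (R.p k) ⟶ R.V k := fun k => pullback.snd _ _
    refine pullLE_injective (dObj D j) q (fun k => rfl) (fun k => q k ⁻¹ᵁ O) (fun k => le_rfl) (fun y hy => ?_) _ _
      fun k => ?_
    · obtain ⟨k, v, hv⟩ := R.cover (f i (a y)) (hW (la hy))
      obtain ⟨w, hw, -⟩ := Scheme.Pullback.exists_preimage_pullback (f := a ≫ f i) (g := R.p k) y v hv.symm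
      exact ⟨k, w, show q k w ∈ O by rw [hw]; exact hy, hw⟩
    have ha : (sn k ≫ R.o k) ≫ f (R.idx k) = (q k ≫ a) ≫ f i := by
      rw [Category.assoc, Category.assoc]; exact pullback.condition.symm
    have hb : (sn k ≫ R.o k) ≫ f (R.idx k) = (q k ≫ b) ≫ f j := by
      refine ha.trans ?_
      simp only [Category.assoc, h]
    have lu : q k ⁻¹ᵁ O ≤ sn k ⁻¹ᵁ (R.p k ⁻¹ᵁ W) := fun w hw => by
      show (sn k ≫ R.p k) w ∈ W
      rw [← pullback.condition]; exact la hw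
    rw [← tr_pullLE D (q k) a b h (q k ≫ a) (q k ≫ b) rfl rfl (ha.symm.trans hb) le_rfl,
      pullLE_puSecLE _ (q k) rfl la le_rfl (fun w hw => la hw), pullLE_puSecLE _ (q k) rfl lb le_rfl (fun w hw => lb hw)]
    show tr D _ _ _ _ (puSecLE (q k ≫ a) (dObj D i) _ (n i)) = puSecLE (q k ≫ b) (dObj D j) _ (n j)
    rw [hn i k _ (sn k) (q k ≫ a) _ rfl ha _ lu _, hn j k _ (sn k) (q k ≫ b) _ rfl hb _ lu _, tr_tr]
  refine ⟨(show gSub D W from ⟨n, hg⟩), fun k => ?_⟩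
  rw [T_apply]
  refine (hn (R.idx k) k (R.V k) (𝟙 _) (R.o k) (R.o k) (Category.id_comp _) rfl _ le_rfl le_rfl).trans ?_
  rw [tr_self]
  exact pullLE_id _ _ _ _

end Refine

end QCohDescLib
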