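import Groth.Agent.QCohDescLib.Local

/-!
# The descended module is quasi-coherent
-/

set_option autoImplicit false
set_option linter.style.haveILetI false
set_option backward.isDefEq.respectTransparency false
set_option backward.isDefEq.respectTransparency.types false
set_option maxHeartbeats 1000000

noncomputable section

universe u v

open CategoryTheory CategoryTheory.Limits AlgebraicGeometry TopologicalSpace Opposite
open KFlatLib (pb puSec puSecLE)

namespace QCohDescLib

variable {ι : Type u} {S : Scheme.{u}} {X : ι → Scheme.{u}} {f : ∀ i, X i ⟶ S}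
  (D : Desc.modPF.{u}.DescentData f) [hD : ∀ i, Coh.IsQCoh (dObj D i)]

namespace Refine

variable {U : S.Opens} (R : Refine f U)

theorem locPair (k : Fin R.m) (g : Γ(S, U)) :
    QCohLib.LocPair (R.mo D k) ((R.p k).app U g) (R.p k ⁻¹ᵁ U) (R.p k ⁻¹ᵁ S.basicOpen g)
      ((R.p k).preimage_mono (S.basicOpen_le g)) le_rfl := by
  haveI : Coh.IsQCoh (R.mo D k) := KFlatLib.isQCoh_pullback (R.o k) (dObj D (R.idx k))
  exact (QCohLib.locPair_congr rfl (Scheme.preimage_basicOpen (R.p k) g).symm).mp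
    (QCohLib.localizingAt_of_isQCoh (R.isAffineOpen_preimage k) (R.mo D k) ((R.p k).app U g))

theorem map_app_pow (k : Fin R.m) (g : Γ(S, U)) (n : ℕ) {W : S.Opens} (hW : W ≤ U) :
    (R.p k).app W ((S.presheaf.map (homOfLE hW).op g) ^ n) =
      ((R.V k).presheaf.map (homOfLE ((R.p k).preimage_mono hW)).op ((R.p k).app U g)) ^ n := by
  rw [map_pow]
  congr 1
  exact congr($((R.p k).naturality (homOfLE hW).op) g)

theorem isAffine_Y2 (hU : IsAffineOpen U) (k l : Fin R.m) : IsAffineOpen (⊤ : (R.Y2 k l).Opens) := by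
  have h := RpushLib.isAffineOpen_fibre (IsPullback.of_hasPullback (R.p k) (R.p l)) hU (isAffineOpen_top _) (R.le l)
    (isAffineOpen_top _) (R.le k)
  rwa [Scheme.Hom.preimage_top, Scheme.Hom.preimage_top, inf_top_eq] at h

theorem fst_preimage_self (k l : Fin R.m) :
    pullback.fst (R.p k) (R.p l) ⁻¹ᵁ (R.p k ⁻¹ᵁ U) = ⊤ := by
  rw [preimage_self, Scheme.Hom.preimage_top]

include R in
theorem localizingAt (hU : IsAffineOpen U) (g : Γ(S, U)) : QCohLib.LocalizingAt (dMod D) g := by
  refine ⟨fun s => ?_, fun t ht => ?_⟩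
  · let W := S.basicOpen g
    have hW : W ≤ U := S.basicOpen_le g
    choose n₀ t₀ ht₀ using fun k => (R.locPair D k g).exists_extend (R.T D W k s)
    let n := Finset.univ.sup n₀
    let gW : Γ(S, W) := S.presheaf.map (homOfLE hW).op g
    obtain ⟨t, htW⟩ : ∃ t : ∀ k, Γ(R.mo D k, R.p k ⁻¹ᵁ U),
        ∀ k, AmpleLib.res (R.mo D k) ((R.p k).preimage_mono hW) (t k) = R.T D W k (gW ^ n • s) := by
      refine ⟨fun k => ((R.p k).app U g) ^ (n - n₀ k) • t₀ k, fun k => ?_⟩
      rw [T_smul, map_app_pow R k g n hW]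
      show (R.mo D k).presheaf.map _ _ = _
      rw [Scheme.Modules.map_smul, ht₀, map_pow, ← mul_smul, ← pow_add,
        Nat.sub_add_cancel (Finset.le_sup (f := n₀) (Finset.mem_univ k))]
    let gq : ∀ k l, Γ(R.Y2 k l, pullback.fst (R.p k) (R.p l) ⁻¹ᵁ (R.p k ⁻¹ᵁ U)) := fun k l =>
      (pullback.fst (R.p k) (R.p l)).app (R.p k ⁻¹ᵁ U) ((R.p k).app U g)
    let P : ∀ k l, Γ(pb (R.la2 k l) (dObj D (R.idx l)), pullback.fst (R.p k) (R.p l) ⁻¹ᵁ (R.p k ⁻¹ᵁ U)) := fun k l =>
      tr D (R.la1 k l) (R.la2 k l) (R.la_comm k l) _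
        (pullLE (dObj D (R.idx k)) (pullback.fst (R.p k) (R.p l)) rfl le_rfl (t k))
    let Q : ∀ k l, Γ(pb (R.la2 k l) (dObj D (R.idx l)), pullback.fst (R.p k) (R.p l) ⁻¹ᵁ (R.p k ⁻¹ᵁ U)) := fun k l =>
      pullLE (dObj D (R.idx l)) (pullback.snd (R.p k) (R.p l)) rfl (R.le_snd U k l) (t l)
    have he : ∀ k l, ∃ e : ℕ, gq k l ^ e • (P k l - Q k l) = 0 := fun k l => by
      haveI : Coh.IsQCoh (pb (R.la2 k l) (dObj D (R.idx l))) := KFlatLib.isQCoh_pullback _ _
      have hWW : pullback.fst (R.p k) (R.p l) ⁻¹ᵁ (R.p k ⁻¹ᵁ W) ≤ pullback.fst (R.p k) (R.p l) ⁻¹ᵁ (R.p k ⁻¹ᵁ U) :=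
        Scheme.Hom.preimage_mono _ ((R.p k).preimage_mono hW)
      have h0 : AmpleLib.res (pb (R.la2 k l) (dObj D (R.idx l))) hWW (P k l - Q k l) = 0 := by
        refine (map_sub ((pb (R.la2 k l) (dObj D (R.idx l))).presheaf.map (homOfLE hWW).op).hom (P k l) (Q k l)).trans
          (sub_eq_zero.2 ?_)
        refine (tr_map D _ _ (R.la_comm k l) hWW _).symm.trans ?_
        rw [map_pullLE _ _ rfl le_rfl hWW hWW]
        refine (congrArg _ (pullLE_map _ _ rfl ((R.p k).preimage_mono hW) le_rfl hWW (t k)).symm).trans ?_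
        refine Eq.trans ?_ (map_pullLE _ _ rfl (R.le_snd U k l) hWW (hWW.trans (R.le_snd U k l)) (t l)).symm
        refine Eq.trans ?_ (pullLE_map _ _ rfl ((R.p l).preimage_mono hW) (R.le_snd W k l) _ (t l))
        show tr D _ _ _ _ (pullLE _ _ rfl _ (AmpleLib.res (R.mo D k) _ (t k))) =
          pullLE _ _ rfl _ (AmpleLib.res (R.mo D l) _ (t l))
        rw [htW, htW]
        exact R.finGlued_T D W (gW ^ n • s) k l _ _ _ _ _ rfl rfl (R.la_comm k l) _ le_rfl (R.le_snd W k l)
      have hloc := (QCohLib.locPair_congr (f := gq k l) (hWV' := hWW) (hVU' := le_rfl) rfl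
        (show (R.Y2 k l).basicOpen (gq k l) = _ by
          rw [Scheme.preimage_basicOpen (R.p k) g, Scheme.preimage_basicOpen (pullback.fst (R.p k) (R.p l))])).mp
        (QCohLib.localizingAt_of_isQCoh (by rw [fst_preimage_self]; exact R.isAffine_Y2 hU k l)
          (pb (R.la2 k l) (dObj D (R.idx l))) (gq k l))
      obtain ⟨e, he⟩ := hloc.eq_zero (P k l - Q k l) h0
      refine ⟨e, ?_⟩
      simpa using he
    choose e he using he
    let E := Finset.univ.sup fun kl : Fin R.m × Fin R.m => e kl.1 kl.2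
    have hg : R.FinGlued D U fun k => ((R.p k).app U g) ^ E • t k := R.finGlued_of D U _ fun k l => by
      have hP := congrArg (gq k l ^ (E - e k l) • ·) (he k l)
      simp only [← mul_smul, ← pow_add, smul_zero, smul_sub, sub_eq_zero] at hP
      have hE : E - e k l + e k l = E :=
        Nat.sub_add_cancel (Finset.le_sup (f := fun kl : Fin R.m × Fin R.m => e kl.1 kl.2) (Finset.mem_univ (k, l)))
      rw [hE] at hP
      rw [pullLE_smul, tr_smul, pullLE_smul, map_pow, map_pow, Scheme.Hom.appLE_eq_app]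
      refine Eq.trans ?_ (hP.trans ?_)
      · rfl
      · congr 2
        show (pullback.fst (R.p k) (R.p l)).app (R.p k ⁻¹ᵁ U) ((R.p k).app U g) = _
        rw [Scheme.Hom.app_eq_appLE (pullback.fst (R.p k) (R.p l))]
        exact (appLE_app _ (R.p k) rfl le_rfl le_rfl g).trans
          (appLE_app (pullback.snd (R.p k) (R.p l)) (R.p l) pullback.condition.symm _ le_rfl g).symm
    obtain ⟨s', hs'⟩ := R.exists_of_finGlued D le_rfl hU _ hg
    refine ⟨E + n, s', R.T_injective D hW _ _ fun k => ?_⟩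
    show R.T D W k (AmpleLib.res (dMod D) hW s') = _
    rw [T_res, hs', T_smul, map_app_pow R k g (E + n) hW]
    show (R.mo D k).presheaf.map _ (_ • _) = _
    rw [Scheme.Modules.map_smul, map_pow, pow_add, mul_smul]
    congr 1
    have h2 := htW k
    rw [T_smul, map_app_pow R k g n hW] at h2
    exact h2
  · choose n hn using fun k => (R.locPair D k g).eq_zero (R.T D U k t) (by
      have h1 := R.T_res D (S.basicOpen_le g) k t
      rw [show AmpleLib.res (dMod D) (S.basicOpen_le g) t = 0 from ht, map_zero] at h1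
      exact h1.symm)
    refine ⟨Finset.univ.sup n, R.T_injective D le_rfl _ _ fun k => ?_⟩
    rw [T_smul, map_app_pow R k g _ le_rfl, map_zero,
      ← Nat.sub_add_cancel (Finset.le_sup (f := n) (Finset.mem_univ k)), pow_add, mul_smul, hn, smul_zero]

end Refine

theorem isQCoh_dMod (hf : Presieve.ofArrows X f ∈ Scheme.fpqcPrecoverage S) : Coh.IsQCoh (dMod D) := by
  rw [QCohLib.isQCoh_iff_localizingAt]
  intro U hU g
  obtain ⟨R⟩ := exists_refine hf hU
  exact R.localizingAt D hU g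

end QCohDescLib
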