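import Groth.Agent.CohCmpLib.PuSec
import Groth.Agent.MiscFlat6.SectionDescent
import Groth.Agent.KFlatLib.AffinePull

/-!
# Sections of pullbacks of a module, as a functor of the scheme
-/

set_option autoImplicit false
set_option linter.style.haveILetI false

noncomputable section

universe u

open CategoryTheory CategoryTheory.Limits AlgebraicGeometry TopologicalSpace Opposite
open KFlatLib (pb puSec puSecLE)

namespace QCohDescLib

variable {Y W W' W'' : Scheme.{u}} (M : Y.Modules)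

/-- The comparison between a pullback along a composite and along its total map. -/
def compIso (g : W' ⟶ W) {h : W ⟶ Y} {h' : W' ⟶ Y} (e : g ≫ h = h') : pb g (pb h M) ≅ pb h' M :=
  (Scheme.Modules.pullbackComp g h).app M ≪≫ (Scheme.Modules.pullbackCongr e).app M

theorem compIso_puSec (g : W' ⟶ W) {h : W ⟶ Y} {h' : W' ⟶ Y} (e : g ≫ h = h') {U : Y.Opens} (m : Γ(M, U))
    (le : g ⁻¹ᵁ (h ⁻¹ᵁ U) ≤ h' ⁻¹ᵁ U) :
    (compIso M g e).hom.app (g ⁻¹ᵁ (h ⁻¹ᵁ U)) (puSec g (puSec h m)) = puSecLE h' M le m := by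
  subst e
  show ((Scheme.Modules.pullbackCongr rfl).hom.app M).app _
    (((Scheme.Modules.pullbackComp g h).hom.app M).app _ (puSec g (puSec h m))) = _
  rw [CohCmpLib.pullbackComp_puSec, show puSec (g ≫ h) m = puSecLE (g ≫ h) M (le_refl ((g ≫ h) ⁻¹ᵁ U)) m from ?_]
  · exact MiscFlat6.pullbackCongr_puSecLE rfl M m le_rfl le
  · exact (congr($((pb (g ≫ h) M).presheaf.map_id _) (puSec (g ≫ h) m))).symm

/-- Restriction of sections between pullbacks. -/
def rho (g : W' ⟶ W) {h : W ⟶ Y} {h' : W' ⟶ Y} (e : g ≫ h = h') :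
    pb h M ⟶ (Scheme.Modules.pushforward g).obj (pb h' M) :=
  (Scheme.Modules.pullbackPushforwardAdjunction g).homEquiv _ _ (compIso M g e).hom

theorem rho_app (g : W' ⟶ W) {h : W ⟶ Y} {h' : W' ⟶ Y} (e : g ≫ h = h') (U : W.Opens) (x : Γ(pb h M, U)) :
    (rho M g e).app U x = (compIso M g e).hom.app (g ⁻¹ᵁ U) (puSec g x) := rfl

theorem rho_puSec (g : W' ⟶ W) {h : W ⟶ Y} {h' : W' ⟶ Y} (e : g ≫ h = h') {U : Y.Opens} (m : Γ(M, U))
    (le : g ⁻¹ᵁ (h ⁻¹ᵁ U) ≤ h' ⁻¹ᵁ U) :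
    (rho M g e).app (h ⁻¹ᵁ U) (puSec h m) = puSecLE h' M le m :=
  compIso_puSec M g e m le

/-- Maps out of a pullback agree if they agree on pulled back sections. -/
theorem hom_ext_puSec {h : W ⟶ Y} {N : W.Modules} {a b : pb h M ⟶ N}
    (hab : ∀ (U : Y.Opens) (m : Γ(M, U)), a.app (h ⁻¹ᵁ U) (puSec h m) = b.app (h ⁻¹ᵁ U) (puSec h m)) : a = b :=
  ((Scheme.Modules.pullbackPushforwardAdjunction h).homEquiv M N).injective
    (Scheme.Modules.hom_ext _ _ fun U => AddCommGrpCat.ext fun m => hab U m)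

theorem puSecLE_rfl {h : W ⟶ Y} {U : Y.Opens} (m : Γ(M, U)) :
    puSecLE h M (le_refl (h ⁻¹ᵁ U)) m = puSec h m :=
  congr($((pb h M).presheaf.map_id _) (puSec h m))

/-- Restriction is functorial. -/
theorem rho_comp (g : W' ⟶ W) (g' : W'' ⟶ W') {h : W ⟶ Y} {h' : W' ⟶ Y} {h'' : W'' ⟶ Y}
    (e : g ≫ h = h') (e' : g' ≫ h' = h'') (e'' : (g' ≫ g) ≫ h = h'') (U : W.Opens) (x : Γ(pb h M, U)) :
    (rho M g' e').app (g ⁻¹ᵁ U) ((rho M g e).app U x) = (rho M (g' ≫ g) e'').app U x := by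
  have key : rho M g e ≫ (Scheme.Modules.pushforward g).map (rho M g' e') ≫
      (Scheme.Modules.pushforwardComp g' g).hom.app _ = rho M (g' ≫ g) e'' := by
    refine hom_ext_puSec M fun V m => ?_
    subst e e'
    show (rho M g' rfl).app (g ⁻¹ᵁ (h ⁻¹ᵁ V)) ((rho M g rfl).app (h ⁻¹ᵁ V) (puSec h m)) = _
    rw [rho_puSec M g rfl m le_rfl]
    refine (congrArg (fun z => (rho M g' rfl).app ((g ≫ h) ⁻¹ᵁ V) z) (puSecLE_rfl M m)).trans ?_
    exact (rho_puSec M g' rfl m le_rfl).trans (rho_puSec M (g' ≫ g) e'' m le_rfl).symm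
  exact congr($(congrArg (fun φ => Scheme.Modules.Hom.app φ U) key) x)

theorem rho_smul (g : W' ⟶ W) {h : W ⟶ Y} {h' : W' ⟶ Y} (e : g ≫ h = h') (U : W.Opens) (c : Γ(W, U))
    (x : Γ(pb h M, U)) :
    (rho M g e).app U (c • x) = g.app U c • (show Γ(pb h' M, g ⁻¹ᵁ U) from (rho M g e).app U x) := by
  rw [QCohLib.app_smul]
  rfl

end QCohDescLib
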