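import Groth.Agent.QCohDescLib.Rho
import Groth.Agent.ModEffLib.Main

/-!
# Global sections of pullbacks over affine schemes as extensions of scalars
-/

set_option autoImplicit false
set_option linter.style.haveILetI false
set_option maxHeartbeats 1000000

noncomputable section

universe u

open CategoryTheory CategoryTheory.Limits AlgebraicGeometry TopologicalSpace Opposite TensorProduct
open KFlatLib (pb puSec puSecLE)
open Groth.Agent.WittDescLib (et et_add et_smul smul_et et_induction et_eq_smul et_zero)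

namespace QCohDescLib

section Algebra

variable {S S' T T' : Type u} [CommRing S] [CommRing S'] [CommRing T] [CommRing T'] [Algebra S S']
  (ε : T ≃+* S) (ε' : T' ≃+* S') (φ : T →+* T') (hφ : ∀ t, ε' (φ t) = algebraMap S S' (ε t))
  {N N' : Type u} [AddCommGroup N] [Module S N] [AddCommGroup N'] [Module S' N'] [Module S N']
  [IsScalarTower S S' N']

/-- A base change, transported along isomorphisms of rings, is bijective on the extension of scalars. -/
theorem bijective_of_isBaseChange (ψ : N →ₗ[S] N') (hψ : IsBaseChange S' ψ)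
    (L : ModuleCat.{u} T) (j : L →+ N) (hj : Function.Bijective j) (hjs : ∀ (t : T) l, j (t • l) = ε t • j l)
    (E : (ModuleCat.extendScalars φ).obj L →+ N') (hE : ∀ t l, E (et φ L t l) = ε' t • ψ (j l))
    (hφ : ∀ t, ε' (φ t) = algebraMap S S' (ε t)) : Function.Bijective E := by
  let X : Type u := ((ModuleCat.extendScalars φ).obj L : ModuleCat.{u} T')
  letI : Module S' X := Module.compHom X ε'.symm.toRingHom
  letI : Module S X := Module.compHom X (ε'.symm.toRingHom.comp (algebraMap S S'))
  haveI : IsScalarTower S S' X := IsScalarTower.of_algebraMap_smul fun _ _ => rfl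
  let jE := AddEquiv.ofBijective j hj
  let k : N →ₗ[S] X :=
    { toFun := fun n => et φ L 1 (jE.symm n)
      map_add' := fun n n' => by rw [map_add]; exact et_add φ L 1 _ _
      map_smul' := fun s n => by
        show et φ L 1 (jE.symm (s • n)) = (ε'.symm (algebraMap S S' s)) • et φ L 1 (jE.symm n)
        have h1 : jE.symm (s • n) = ε.symm s • jE.symm n := by
          refine hj.1 ?_
          rw [hjs, RingEquiv.apply_symm_apply]
          exact (jE.apply_symm_apply _).trans (congrArg (s • ·) (jE.apply_symm_apply n).symm)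
        have h2 : φ (ε.symm s) = ε'.symm (algebraMap S S' s) :=
          ε'.injective (by rw [hφ, RingEquiv.apply_symm_apply, RingEquiv.apply_symm_apply])
        rw [h1, et_smul, smul_et, mul_one, mul_one, h2] }
  let Q : N' →ₗ[S'] X := hψ.lift k
  have hl : ∀ z, Q (E z) = z := fun z => by
    induction z using et_induction with
    | h0 => rw [map_zero, map_zero]
    | hadd a b ha hb => simp only [map_add, ha, hb]
    | ht t l =>
      rw [hE, map_smul, hψ.lift_eq]
      show ε'.symm (ε' t) • et φ L 1 (jE.symm (j l)) = et φ L t l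
      rw [RingEquiv.symm_apply_apply, smul_et, mul_one]
      exact congrArg (et φ L t) (jE.symm_apply_apply l)
  refine ⟨fun a b h => by rw [← hl a, h, hl], fun n => ?_⟩
  induction n using hψ.inductionOn with
  | zero => exact ⟨0, map_zero E⟩
  | tmul n =>
    obtain ⟨l, rfl⟩ := hj.2 n
    exact ⟨et φ L 1 l, by rw [hE, map_one, one_smul]⟩
  | smul s x hx =>
    obtain ⟨z, rfl⟩ := hx
    refine ⟨ε'.symm s • z, ?_⟩
    induction z using et_induction with
    | h0 => simp
    | hadd a b ha hb => simp only [smul_add, map_add, ha, hb]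
    | ht t l => rw [smul_et, hE, hE, ← mul_smul, map_mul, RingEquiv.apply_symm_apply]
  | add x y hx hy =>
    obtain ⟨a, rfl⟩ := hx
    obtain ⟨b, rfl⟩ := hy
    exact ⟨a + b, map_add E a b⟩

end Algebra

/-- Scalars of the ring as functions on its spectrum. -/
abbrev fn (T : Type u) [CommRing T] : T →+* Γ(Spec (CommRingCat.of T), ⊤) :=
  (Scheme.ΓSpecIso (CommRingCat.of T)).inv.hom

/-- The global sections of a module on a spectrum, over the ring. -/
def secB {T : Type u} [CommRing T] (N : (Spec (CommRingCat.of T)).Modules) : ModuleCat.{u} T :=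
  (ModuleCat.restrictScalars (fn T)).obj (ModuleCat.of Γ(Spec (CommRingCat.of T), ⊤) Γ(N, ⊤))

variable {Y : Scheme.{u}} (M : Y.Modules) {T T' T'' : Type u} [CommRing T] [CommRing T'] [CommRing T'']

/-- The global sections of a pullback to a spectrum. -/
def Sec (h : Spec (CommRingCat.of T) ⟶ Y) : ModuleCat.{u} T :=
  secB (pb h M)

/-- A global section of a pullback, as an element of `Sec`. -/
abbrev toSec {h : Spec (CommRingCat.of T) ⟶ Y} (x : Γ(pb h M, ⊤)) : Sec M h := x

theorem smul_toSec {h : Spec (CommRingCat.of T) ⟶ Y} (t : T) (x : Γ(pb h M, ⊤)) :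
    t • toSec M x = toSec M (fn T t • x) := rfl

/-- The spectrum of a map of rings. -/
abbrev sp (φ : T →+* T') : Spec (CommRingCat.of T') ⟶ Spec (CommRingCat.of T) := Spec.map (CommRingCat.ofHom φ)

theorem fn_map (φ : T →+* T') (t : T) : fn T' (φ t) = (sp φ).appTop (fn T t) :=
  congr($(Scheme.ΓSpecIso_inv_naturality (CommRingCat.ofHom φ)) t)

/-- Restriction along a map of rings. -/
irreducible_def res (φ : T →+* T') {h : Spec (CommRingCat.of T) ⟶ Y} {h' : Spec (CommRingCat.of T') ⟶ Y}
    (e : sp φ ≫ h = h') : Sec M h →+ Sec M h' :=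
  ((rho M (sp φ) e).app ⊤).hom

theorem res_apply (φ : T →+* T') {h : Spec (CommRingCat.of T) ⟶ Y} {h' : Spec (CommRingCat.of T') ⟶ Y}
    (e : sp φ ≫ h = h') (x : Sec M h) : res M φ e x = (rho M (sp φ) e).app ⊤ x := by
  rw [res_def]
  rfl

theorem res_smul (φ : T →+* T') {h : Spec (CommRingCat.of T) ⟶ Y} {h' : Spec (CommRingCat.of T') ⟶ Y}
    (e : sp φ ≫ h = h') (t : T) (x : Sec M h) : res M φ e (t • x) = φ t • res M φ e x := by
  rw [res_apply M φ e, res_apply M φ e]
  refine (rho_smul M (sp φ) e ⊤ (fn T t) x).trans ?_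
  show (sp φ).appTop (fn T t) • (show Γ(pb h' M, ⊤) from (rho M (sp φ) e).app ⊤ x) = fn T' (φ t) • (show Γ(pb h' M, ⊤) from (rho M (sp φ) e).app ⊤ x)
  rw [fn_map]

theorem res_res (φ : T →+* T') (φ' : T' →+* T'') (ψ : T →+* T'') (hψ : φ'.comp φ = ψ)
    {h : Spec (CommRingCat.of T) ⟶ Y} {h' : Spec (CommRingCat.of T') ⟶ Y} {h'' : Spec (CommRingCat.of T'') ⟶ Y}
    (e : sp φ ≫ h = h') (e' : sp φ' ≫ h' = h'') (e'' : sp ψ ≫ h = h'') (x : Sec M h) :
    res M φ' e' (res M φ e x) = res M ψ e'' x := by
  subst hψ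
  have hc : sp (φ'.comp φ) = sp φ' ≫ sp φ := by rw [← Spec.map_comp]; rfl
  have key : ∀ (g : Spec (CommRingCat.of T'') ⟶ Spec (CommRingCat.of T)) (eg : g ≫ h = h''),
      g = sp φ' ≫ sp φ → res M φ' e' (res M φ e x) = (rho M g eg).app ⊤ x := by
    rintro g eg rfl
    rw [res_apply, res_apply]
    exact rho_comp M (sp φ) (sp φ') e e' eg ⊤ x
  exact (key _ e'' hc).trans (res_apply M _ e'' x).symm

/-- The linear extension of restriction. -/
def extMap (φ : T →+* T') {h : Spec (CommRingCat.of T) ⟶ Y} {h' : Spec (CommRingCat.of T') ⟶ Y}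
    (e : sp φ ≫ h = h') : (ModuleCat.extendScalars φ).obj (Sec M h) →ₗ[T'] Sec M h' :=
  let E := ModEffLib.liftEt φ (Sec M h) (AddMonoidHom.mk' (fun t => AddMonoidHom.mk' (fun x => t • res M φ e x)
      (fun x x' => by rw [map_add, smul_add])) (fun t t' => AddMonoidHom.ext fun x => add_smul t t' _))
    (fun a t x => by
      show (φ a * t) • res M φ e x = t • res M φ e (a • x)
      rw [res_smul, mul_comm, mul_smul])
  { E with
    map_smul' := fun c z => by
      show E (c • z) = c • E z
      induction z using et_induction with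
      | h0 => simp
      | hadd a b ha hb => simp only [smul_add, map_add, ha, hb]
      | ht t x =>
        rw [smul_et]
        exact mul_smul c t _ }

theorem extMap_et (φ : T →+* T') {h : Spec (CommRingCat.of T) ⟶ Y} {h' : Spec (CommRingCat.of T') ⟶ Y}
    (e : sp φ ≫ h = h') (t : T') (x : Sec M h) : extMap M φ e (et φ (Sec M h) t x) = t • res M φ e x := rfl

/-- The linear extension of restriction, as a morphism. -/
def extHom (φ : T →+* T') {h : Spec (CommRingCat.of T) ⟶ Y} {h' : Spec (CommRingCat.of T') ⟶ Y}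
    (e : sp φ ≫ h = h') : (ModuleCat.extendScalars φ).obj (Sec M h) ⟶ Sec M h' :=
  ConcreteCategory.ofHom (C := ModuleCat T') (X := (ModuleCat.extendScalars φ).obj (Sec M h)) (Y := Sec M h') (extMap M φ e)

/-- Quasi-coherent pullbacks: restriction is a base change. -/
theorem extMap_bijective (φ : T →+* T') {h : Spec (CommRingCat.of T) ⟶ Y} {h' : Spec (CommRingCat.of T') ⟶ Y}
    (e : sp φ ≫ h = h') [Coh.IsQCoh (pb h M)] : Function.Bijective (extMap M φ e) := by
  let g := sp φ
  have hle : (⊤ : (Spec (CommRingCat.of T')).Opens) ≤ g ⁻¹ᵁ ⊤ := le_rfl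
  letI : Algebra Γ(Spec (CommRingCat.of T), ⊤) Γ(Spec (CommRingCat.of T'), ⊤) := (g.appLE ⊤ ⊤ hle).hom.toAlgebra
  letI : Module Γ(Spec (CommRingCat.of T), ⊤) Γ(pb g (pb h M), ⊤) := Module.compHom _ (g.appLE ⊤ ⊤ hle).hom
  haveI : IsScalarTower Γ(Spec (CommRingCat.of T), ⊤) Γ(Spec (CommRingCat.of T'), ⊤) Γ(pb g (pb h M), ⊤) :=
    IsScalarTower.of_algebraMap_smul fun _ _ => rfl
  let ψ : Γ(pb h M, ⊤) →ₗ[Γ(Spec (CommRingCat.of T), ⊤)] Γ(pb g (pb h M), ⊤) :=
    { toFun := puSecLE g (pb h M) hle
      map_add' := map_add _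
      map_smul' := fun r m => KFlatLib.puSecLE_smul g (pb h M) hle r m }
  have hψ : IsBaseChange Γ(Spec (CommRingCat.of T'), ⊤) ψ := KFlatLib.isBaseChange_puSec g (pb h M)
    (isAffineOpen_top _) (isAffineOpen_top _) hle (fun _ => rfl) ψ fun _ => rfl
  have hc : Function.Bijective ((compIso M g e).hom.app ⊤) := ConcreteCategory.bijective_of_isIso _
  let cE := AddEquiv.ofBijective ((compIso M g e).hom.app ⊤).hom hc
  have hb := bijective_of_isBaseChange (Scheme.ΓSpecIso (CommRingCat.of T)).symm.commRingCatIsoToRingEquiv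
    (Scheme.ΓSpecIso (CommRingCat.of T')).symm.commRingCatIsoToRingEquiv φ ψ hψ (Sec M h) (AddMonoidHom.id _)
    Function.bijective_id (fun _ _ => rfl)
    (cE.symm.toAddMonoidHom.comp (extMap M φ e).toAddMonoidHom)
    (fun t x => by
      show cE.symm (t • res M φ e x) = fn T' t • ψ x
      refine cE.injective ((cE.apply_symm_apply _).trans ?_)
      have h1 : ψ x = puSec g (show Γ(pb h M, ⊤) from x) := congr($((pb g (pb h M)).presheaf.map_id _) (puSec g (show Γ(pb h M, ⊤) from x)))
      show _ = (compIso M g e).hom.app ⊤ (fn T' t • ψ x)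
      rw [QCohLib.app_smul, h1, res_apply]
      rfl)
    (fun t => by
      show fn T' (φ t) = g.appLE ⊤ ⊤ hle (fn T t)
      rw [fn_map, Scheme.Hom.appLE]
      exact (congr($((Spec (CommRingCat.of T')).presheaf.map_id _) (g.appTop (fn T t)))).symm)
  exact (Function.Bijective.of_comp_iff' cE.symm.bijective _).mp hb


/-- Quasi-coherent pullbacks: restriction is a base change, as an isomorphism. -/
theorem isIso_extHom (φ : T →+* T') {h : Spec (CommRingCat.of T) ⟶ Y} {h' : Spec (CommRingCat.of T') ⟶ Y}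
    (e : sp φ ≫ h = h') [Coh.IsQCoh (pb h M)] : IsIso (extHom M φ e) :=
  (ConcreteCategory.isIso_iff_bijective _).2 (extMap_bijective M φ e)

theorem extHom_et_one (φ : T →+* T') {h : Spec (CommRingCat.of T) ⟶ Y} {h' : Spec (CommRingCat.of T') ⟶ Y}
    (e : sp φ ≫ h = h') (x : Sec M h) : (extHom M φ e).hom (et φ (Sec M h) 1 x) = res M φ e x :=
  (extMap_et M φ e 1 x).trans (one_smul _ _)

end QCohDescLib
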