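import Groth.Agent.QCohDescLib.Amitsur
import Groth.Agent.DescLib.Fpqc

/-!
# Sections of quasi-coherent modules satisfy descent for fpqc families
-/

set_option autoImplicit false
set_option linter.style.haveILetI false
set_option maxHeartbeats 800000

noncomputable section

universe u

open CategoryTheory CategoryTheory.Limits AlgebraicGeometry TopologicalSpace Opposite TensorProduct
open KFlatLib (pb puSec puSecLE)
open ModEffLib (i₁ i₂)

namespace QCohDescLib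

theorem exists_descend_spec (A B : Type u) [CommRing A] [CommRing B] [Algebra A B] [Module.FaithfullyFlat A B]
    {S : Scheme.{u}} (ι : Spec (CommRingCat.of A) ⟶ S) [IsOpenImmersion ι] (N : S.Modules) [Coh.IsQCoh N]
    (t : Γ(pb (qmap A B ≫ ι) N, ⊤))
    (ht : ∀ (Y : Scheme.{u}) (a b : Y ⟶ Spec (CommRingCat.of B)) (hY : Y ⟶ S) (ea : a ≫ qmap A B ≫ ι = hY)
      (eb : b ≫ qmap A B ≫ ι = hY), pullLE N a ea (O' := ⊤) le_rfl t = pullLE N b eb (O' := ⊤) le_rfl t) :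
    ∃ n : Γ(N, ι.opensRange),
      puSecLE (qmap A B ≫ ι) N (show (⊤ : (Spec (CommRingCat.of B)).Opens) ≤ (qmap A B ≫ ι) ⁻¹ᵁ ι.opensRange from fun y _ => ⟨qmap A B y, rfl⟩) n = t := by
  let M := pb ι N
  haveI : Coh.IsQCoh M := KFlatLib.isQCoh_pullback ι N
  let κ := fun (T : Type u) [CommRing T] [Algebra A T] => compIso N (qmap A T) (h := ι) rfl
  have hκ : ∀ (T : Type u) [CommRing T] [Algebra A T], Function.Bijective ((κ T).hom.app ⊤) :=
    fun T _ _ => ConcreteCategory.bijective_of_isIso _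
  obtain ⟨x, hx⟩ := (hκ B).2 t
  have e₁ := sp_comp A (i₁ (A := A) (B := B)) (i₁_comp A B)
  have e₂ := sp_comp A (i₂ (A := A) (B := B)) (i₂_comp A B)
  obtain ⟨l, hl⟩ := exists_res_eq A B M x (by
    refine (hκ (B ⊗[A] B)).1 ?_
    rw [← pullLE_eq_res M _ e₁ (le_refl ⊤) x, ← pullLE_eq_res M _ e₂ (le_refl ⊤) x]
    refine (compIso_pullLE N ι (sp (i₁ (A := A) (B := B))) e₁ (by rw [reassoc_of% e₁]) (le_refl ⊤) x).trans
      (Eq.trans ?_ (compIso_pullLE N ι (sp (i₂ (A := A) (B := B))) e₂ (by rw [reassoc_of% e₂]) (le_refl ⊤) x).symm)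
    rw [hx]
    exact ht _ _ _ _ _ _)
  let ι' := qmap A A ≫ ι
  haveI : IsIso (qmap A A) := by
    show IsIso (Spec.map (CommRingCat.ofHom (RingHom.id A)))
    rw [show CommRingCat.ofHom (RingHom.id A) = 𝟙 (CommRingCat.of A) from rfl, Spec.map_id]
    infer_instance
  have hr : ι' ''ᵁ ⊤ = ι.opensRange := by
    refine Opens.ext ?_
    show ι' '' Set.univ = Set.range ι
    rw [Set.image_univ]
    exact (Set.range_comp ι (qmap A A)).trans (by rw [(qmap A A).surjective.range_eq, Set.image_univ])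
  obtain ⟨n, hn⟩ := (SeesawLib.puSecLE_bijective ι' N (W := ⊤) (show (⊤ : (Spec (CommRingCat.of A)).Opens) ≤ ι' ⁻¹ᵁ ι.opensRange from fun y _ => ⟨qmap A A y, rfl⟩) hr).2
    ((κ A).hom.app ⊤ l)
  refine ⟨n, ?_⟩
  have e₀ := sp_algebraMap A B
  rw [← hx, ← hl, ← pullLE_eq_res M _ e₀ (le_refl ⊤) l]
  refine Eq.trans ?_ (compIso_pullLE N ι (sp (algebraMap A B)) e₀ (by rw [reassoc_of% e₀]) (le_refl ⊤) l).symm
  show _ = pullLE N _ _ _ ((κ A).hom.app ⊤ l)
  rw [← hn]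
  exact (pullLE_puSecLE N _ _ _ _ _ n).symm

theorem exists_descend_affine {S W : Scheme.{u}} [IsAffine W] (N : S.Modules) [Coh.IsQCoh N] {U : S.Opens}
    (hU : IsAffineOpen U) (p : W ⟶ S) [Flat p] (hp : Set.range p = U) (t : Γ(pb p N, ⊤))
    (ht : ∀ (Y : Scheme.{u}) (a b : Y ⟶ W) (hY : Y ⟶ S) (ea : a ≫ p = hY) (eb : b ≫ p = hY),
      pullLE N a ea (O' := ⊤) le_rfl t = pullLE N b eb (O' := ⊤) le_rfl t) :
    ∃ n : Γ(N, U), puSecLE p N (fun y _ => hp.le ⟨y, rfl⟩) n = t := by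
  let j := W.isoSpec.inv
  let l : Spec Γ(W, ⊤) ⟶ Spec Γ(S, U) := IsOpenImmersion.lift hU.fromSpec (j ≫ p) (by
    rintro _ ⟨y, rfl⟩
    rw [hU.range_fromSpec]
    exact hp.le ⟨j y, rfl⟩)
  have hl : l ≫ hU.fromSpec = j ≫ p := IsOpenImmersion.lift_fac _ _ _
  haveI : Flat (l ≫ hU.fromSpec) := by rw [hl]; infer_instance
  haveI : Flat l := MorphismProperty.of_postcomp @Flat (W' := @IsOpenImmersion) l hU.fromSpec inferInstance inferInstance
  haveI : Surjective l := ⟨fun z => by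
    have hz : hU.fromSpec z ∈ (U : Set S) := hU.range_fromSpec.le ⟨z, rfl⟩
    obtain ⟨w, hw⟩ := hp.ge hz
    refine ⟨W.isoSpec.hom w, hU.fromSpec.injective ?_⟩
    rw [← Scheme.Hom.comp_apply, hl, Scheme.Hom.comp_apply, ← hw]
    exact congrArg p (by rw [← Scheme.Hom.comp_apply, Iso.hom_inv_id]; rfl)⟩
  obtain ⟨φ, hφ⟩ : ∃ φ, Spec.map φ = l := ⟨Spec.preimage l, Spec.map_preimage l⟩
  letI := φ.hom.toAlgebra
  haveI : Flat (Spec.map φ) := by rw [hφ]; infer_instance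
  haveI : Surjective (Spec.map φ) := by rw [hφ]; infer_instance
  haveI : Module.Flat Γ(S, U) Γ(W, ⊤) := by
    have h1 : φ.hom.Flat := (HasRingHomProperty.Spec_iff (P := @Flat)).1 inferInstance
    exact h1
  haveI : Module.FaithfullyFlat Γ(S, U) Γ(W, ⊤) :=
    Module.FaithfullyFlat.of_comap_surjective (Spec.map φ).surjective
  have hq : j ≫ p = qmap Γ(S, U) Γ(W, ⊤) ≫ hU.fromSpec := by
    show _ = Spec.map φ ≫ _
    rw [hφ, hl]
  have hr : hU.fromSpec.opensRange = U := Opens.ext hU.range_fromSpec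
  let t' := pullLE N j (h' := qmap Γ(S, U) Γ(W, ⊤) ≫ hU.fromSpec) hq (O' := ⊤) le_rfl t
  obtain ⟨n, hn⟩ := exists_descend_spec Γ(S, U) Γ(W, ⊤) hU.fromSpec N t' (fun Y a b hY ea eb => by
    have ea' : (a ≫ j) ≫ p = hY := by rw [Category.assoc, hq]; exact ea
    have eb' : (b ≫ j) ≫ p = hY := by rw [Category.assoc, hq]; exact eb
    refine (pullLE_pullLE N j a hq ea ea' (le_refl ⊤) (le_refl ⊤) (le_refl ⊤) t).trans
      (Eq.trans ?_ (pullLE_pullLE N j b hq eb eb' (le_refl ⊤) (le_refl ⊤) (le_refl ⊤) t).symm)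
    exact ht Y _ _ hY _ _)
  refine ⟨N.presheaf.map (homOfLE hr.ge).op n, ?_⟩
  refine pullLE_injective N (fun _ : PUnit.{1} => j) (fun _ => hq) (fun _ => ⊤) (fun _ => le_rfl)
    (fun x _ => ⟨PUnit.unit, W.isoSpec.hom x, trivial, by rw [← Scheme.Hom.comp_apply, Iso.hom_inv_id]; rfl⟩)
    _ _ fun _ => ?_
  show _ = t'
  rw [← hn, pullLE_puSecLE N j hq _ _ (fun y _ => by
    show (qmap Γ(S, U) Γ(W, ⊤) ≫ hU.fromSpec) y ∈ (U : Set S)
    rw [← hU.range_fromSpec]; exact ⟨_, rfl⟩)]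
  exact CubeLib.puSecLE_res _ _ _ _ _

end QCohDescLib
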